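import Cfsg.Agent.S0243
import Cfsg.Agent.S0813
import Cfsg.Agent.S2119
import Cfsg.Agent.ClassicalGeometry.PSL2Basic
import Cfsg.Agent.H912.CrossList_m3
import Cfsg.Agent.H578.HT.Cov_m3
import Cfsg.Agent.H333.QS6.Lift
import Mathlib
import Cfsg.Agent.H138.HT.Alt
import Cfsg.Agent.H933.HT.U33T
import Cfsg.Agent.H373.OC.PSUFour
import Cfsg.Agent.S0280
import Cfsg.Agent.S0815
import Cfsg.Agent.FastGrp
import Cfsg.Agent.Prune
set_option linter.all false

section
prune_inst 0x7ffcadffabf83bffdfff7e7fa7d8cffc39901fffe6dff94bffe06bff0bdf030209c56bad8de090fe1eb6c21410b87853fbffeeffe26bdc7ffffd5ff41ffbee4ff5f7b50851d488340fbc2ffe03f0778e7f3fffffffffffffffffffffffffffbeffbffffffffd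

-- part: H333/QS6/Data
section
prune_inst 0x2
set_option linter.all false
open scoped Cfsg.Agent.FastGrp

/-!
# S3540, quasisimple rows: `L₂(7)`, `L₂(13)`, `A₇` (helper333)
-/

set_option autoImplicit false
set_option linter.unusedSectionVars false

universe u v

namespace Cfsg.Agent.H333.QS6.Data

open Matrix

/-! ### projective linear groups -/

section card

variable {F : Type u} [Field F] [Fintype F]

theorem card_pgl {n : ℕ} (hn : 2 ≤ n) : Nat.card (ProjGenLinGroup (Fin n) F) =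
    Nat.gcd n (Fintype.card F - 1) * Nat.card (ProjectiveSpecialLinearGroup (Fin n) F) := by
  classical
  have : NeZero n := ⟨by omega⟩
  have h1 := Cfsg.Agent.S0243.result (F := F) rfl n hn
  have h2 : Nat.card (ProjGenLinGroup (Fin n) F) * (Fintype.card F - 1) = Nat.card (GL (Fin n) F) :=
    Cfsg.Agent.ClassicalGeometry.PSL2Basic.card_PGL_mul (Fin n) F
  rw [Matrix.card_GL_field, ← h1] at h2
  have h3 : 0 < Fintype.card F - 1 := by
    have := Fintype.one_lt_card (α := F)
    omega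
  have h4 : Nat.card (ProjGenLinGroup (Fin n) F) * (Fintype.card F - 1) =
    (Nat.gcd n (Fintype.card F - 1) * Nat.card (ProjectiveSpecialLinearGroup (Fin n) F)) * (Fintype.card F - 1) := by
    rw [h2]; ring
  exact Nat.eq_of_mul_eq_mul_right h3 h4

end card

/-! ### `PSL₂` over a prime field -/

section two

variable {F : Type u} [Field F] [Fintype F]

theorem card_two {q : ℕ} (hq : Fintype.card F = q) : Nat.gcd 2 (q - 1) *
    ((q - 1) * Nat.card (ProjectiveSpecialLinearGroup (Fin 2) F)) = (q ^ 2 - 1) * (q ^ 2 - q) := by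
  have h := Cfsg.Agent.S0243.result hq 2 le_rfl
  rw [h, Fin.prod_univ_two]
  simp only [_root_.Fin.isValue, _root_.Fin.coe_ofNat_eq_mod, _root_.Nat.zero_mod, _root_.pow_zero, _root_.Nat.mod_succ, _root_.pow_one]

/-- the transvection -/
def tu (n : F) : _root_.Matrix.SpecialLinearGroup (Fin 2) F := ⟨!![1, n; 0, 1], by simp⟩

theorem tu_mul (a b : F) : tu a * tu b = tu (a + b) := by
  apply Subtype.ext
  change !![1, a; 0, 1] * !![1, b; 0, 1] = !![1, a + b; 0, 1]
  ext i j
  (revert i j; simp [add_comm, _root_.Fin.forall_fin_succ])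

theorem tu_zero : tu (0 : F) = 1 := by
  apply Subtype.ext
  change !![1, (0 : F); 0, 1] = 1
  ext i j
  (revert i j; simp only [_root_.Fin.forall_fin_succ, _root_.Matrix.of_apply, _root_.Matrix.cons_val', _root_.Matrix.cons_val_fin_one, Fin.isValue, _root_.Matrix.cons_val_zero, _root_.Matrix.cons_val_succ, _root_.IsEmpty.forall_iff, _root_.and_true, _root_.Matrix.one_apply_eq, Nat.reduceAdd, _root_.Fin.succ_zero_eq_one, _root_.ne_eq, _root_.zero_ne_one, _root_.not_false_eq_true, _root_.Matrix.one_apply_ne, _root_.and_self, _root_.Fin.succ_ne_zero, _root_.true_and])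

theorem tu_pow (n : ℕ) : (tu (1 : F)) ^ n = tu (n : F) := by
  induction n with
  | zero => rw [pow_zero, Nat.cast_zero, tu_zero]
  | succ n ih => rw [pow_succ, ih, tu_mul, Nat.cast_succ]

/-- the diagonal matrix -/
def dg (a b : F) (h : a * b = 1) : _root_.Matrix.SpecialLinearGroup (Fin 2) F := ⟨!![a, 0; 0, b], by simp [h]⟩

theorem dg_rel (a b : F) (h : a * b = 1) (n : ℕ) (hn : a = b * n) :
    dg a b h * tu 1 * (dg a b h)⁻¹ = tu 1 ^ n := by
  rw [mul_inv_eq_iff_eq_mul, tu_pow]
  apply Subtype.ext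
  change !![a, 0; 0, b] * !![1, 1; 0, 1] = !![1, (n : F); 0, 1] * !![a, 0; 0, b]
  ext i j
  (revert i j; simp [hn, mul_comm, _root_.Fin.forall_fin_succ])

theorem dg_cube (a b : F) (h : a * b = 1) (h3 : a ^ 3 = 1) (h3' : b ^ 3 = 1) : dg a b h ^ 3 = 1 := by
  apply Subtype.ext
  change !![a, 0; 0, b] ^ 3 = 1
  rw [pow_succ, pow_two]
  ext i j
  (revert i j; simp only [_root_.Fin.forall_fin_succ, _root_.Matrix.cons_mul, _root_.Nat.succ_eq_add_one, Nat.reduceAdd, _root_.Matrix.vecMul_cons, _root_.Matrix.head_cons, _root_.Matrix.smul_cons, _root_.smul_eq_mul, _root_.MulZeroClass.mul_zero, _root_.Matrix.smul_empty, _root_.Matrix.tail_cons, _root_.zero_smul, _root_.Matrix.empty_vecMul, _root_.add_zero, _root_.zero_add, _root_.Matrix.empty_mul, _root_.Equiv.symm_apply_apply, _root_.Matrix.of_apply, _root_.Matrix.cons_val', _root_.Matrix.cons_val_fin_one, Fin.isValue, _root_.Matrix.cons_val_zero, _root_.Matrix.cons_val_succ, _root_.IsEmpty.forall_iff, _root_.and_true,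 _root_.Matrix.one_apply_eq, _root_.Fin.succ_zero_eq_one, _root_.ne_eq, _root_.zero_ne_one, _root_.not_false_eq_true, _root_.Matrix.one_apply_ne, _root_.Fin.succ_ne_zero, _root_.true_and]) <;> (repeat' with_reducible apply And.intro) <;> first | linear_combination h3 | linear_combination h3'

theorem tu_not_center : tu (1 : F) ∉ Subgroup.center (_root_.Matrix.SpecialLinearGroup (Fin 2) F) := by
  intro h
  rw [Subgroup.mem_center_iff] at h
  have h1 := h (⟨!![1, 0; 1, 1], by simp⟩ : _root_.Matrix.SpecialLinearGroup (Fin 2) F)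
  have h2 := congrArg (fun x : _root_.Matrix.SpecialLinearGroup (Fin 2) F => (x : Matrix (Fin 2) (Fin 2) F) 0 0) h1
  change (!![1, 0; 1, 1] * !![1, 1; 0, 1] : Matrix (Fin 2) (Fin 2) F) 0 0 =
    (!![1, 1; 0, 1] * !![1, 0; 1, 1] : Matrix (Fin 2) (Fin 2) F) 0 0 at h2
  simp at h2

/-- the order and the number of outer automorphisms for prime `q` -/
theorem card_aut {q : ℕ} (hp : q.Prime) (h4 : 4 ≤ q) (hq : Fintype.card F = q) :
    Nat.card (MulAut (ProjectiveSpecialLinearGroup (Fin 2) F)) =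
      Nat.gcd 2 (q - 1) * Nat.card (ProjectiveSpecialLinearGroup (Fin 2) F) := by
  have : Fact q.Prime := ⟨hp⟩
  have h1 := Cfsg.Agent.S0813.result (F := F) q 1 le_rfl (by rw [hq, pow_one]) 2 le_rfl (fun _ => by rwa [pow_one])
  rw [h1, if_pos rfl, one_mul, one_mul, card_pgl le_rfl, hq]

theorem charZero_of {q : ℕ} (hq : Fintype.card F = q) : (q : F) = 0 := by
  rw [← hq]; exact Nat.cast_card_eq_zero F

end two

/-- `L₂(13)` -/
theorem l213 {S : Type v} [Group S] (hS : Cfsg.Agent.H912.Bd.IsL 2 13 S) : Nat.card S = 1092 ∧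
    Nat.card (MulAut S) = 2184 ∧ ∃ z t x : S, z ≠ 1 ∧ z ^ 13 = 1 ∧ t * z * t⁻¹ = z ^ 4 ∧ x ^ 3 = 1 ∧
      x * z * x⁻¹ = z ^ 9 := by
  obtain ⟨F, _, _, hF, ⟨e⟩⟩ := hS
  have h1 := card_two hF
  have hc : Nat.card (ProjectiveSpecialLinearGroup (Fin 2) F) = 1092 := by
    generalize Nat.card (ProjectiveSpecialLinearGroup (Fin 2) F) = n at h1 ⊢
    norm_num at h1
    omega
  have h13 : (13 : F) = 0 := by exact_mod_cast charZero_of hF
  have k1 : (2 : F) * 7 = 1 := by linear_combination h13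
  have k2 : (3 : F) * 9 = 1 := by linear_combination 2 * h13
  refine ⟨(Nat.card_congr e.toEquiv).trans hc, ?_, ?_⟩
  · rw [Nat.card_congr (MulAut.congr e).toEquiv, card_aut (by norm_num) (by norm_num) hF, hc]
    rfl
  · refine ⟨e.symm (QuotientGroup.mk (tu 1)), e.symm (QuotientGroup.mk (dg 2 7 k1)),
      e.symm (QuotientGroup.mk (dg 3 9 k2)), ?_, ?_, ?_, ?_, ?_⟩
    · rw [Ne, MulEquiv.map_eq_one_iff, QuotientGroup.eq_one_iff]
      exact tu_not_center
    · rw [← map_pow, ← QuotientGroup.mk_pow, tu_pow, Nat.cast_ofNat, h13, tu_zero]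
      exact map_one e.symm
    · rw [← map_pow, ← map_inv, ← map_mul, ← map_mul]
      congr 1
      rw [← QuotientGroup.mk_pow, ← dg_rel 2 7 k1 4 (by push_cast; linear_combination (-2) * h13)]
      rfl
    · rw [← map_pow, ← QuotientGroup.mk_pow, dg_cube 3 9 k2 (by linear_combination 2 * h13)
        (by linear_combination 56 * h13)]
      exact map_one e.symm
    · rw [← map_pow, ← map_inv, ← map_mul, ← map_mul]
      congr 1
      rw [← QuotientGroup.mk_pow, ← dg_rel 3 9 k2 9 (by push_cast; linear_combination (-6) * h13)]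
      rfl

/-- `L₂(7)` -/
theorem l27 {S : Type v} [Group S] (hS : Cfsg.Agent.H912.Bd.IsL 2 7 S) : Nat.card S = 168 ∧
    Nat.card (MulAut S) = 336 ∧ ∃ z x : S, z ≠ 1 ∧ z ^ 7 = 1 ∧ x ^ 3 = 1 ∧ x * z * x⁻¹ = z ^ 4 := by
  obtain ⟨F, _, _, hF, ⟨e⟩⟩ := hS
  have h1 := card_two hF
  have hc : Nat.card (ProjectiveSpecialLinearGroup (Fin 2) F) = 168 := by
    generalize Nat.card (ProjectiveSpecialLinearGroup (Fin 2) F) = n at h1 ⊢
    norm_num at h1
    omega
  have h7 : (7 : F) = 0 := by exact_mod_cast charZero_of hF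
  have k1 : (2 : F) * 4 = 1 := by linear_combination h7
  refine ⟨(Nat.card_congr e.toEquiv).trans hc, ?_, ?_⟩
  · rw [Nat.card_congr (MulAut.congr e).toEquiv, card_aut (by norm_num) (by norm_num) hF, hc]
    rfl
  · refine ⟨e.symm (QuotientGroup.mk (tu 1)), e.symm (QuotientGroup.mk (dg 2 4 k1)), ?_, ?_, ?_, ?_⟩
    · rw [Ne, MulEquiv.map_eq_one_iff, QuotientGroup.eq_one_iff]
      exact tu_not_center
    · rw [← map_pow, ← QuotientGroup.mk_pow, tu_pow, Nat.cast_ofNat, h7, tu_zero]
      exact map_one e.symm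
    · rw [← map_pow, ← QuotientGroup.mk_pow, dg_cube 2 4 k1 (by linear_combination h7)
        (by linear_combination 9 * h7)]
      exact map_one e.symm
    · rw [← map_pow, ← map_inv, ← map_mul, ← map_mul]
      congr 1
      rw [← QuotientGroup.mk_pow, ← dg_rel 2 4 k1 4 (by push_cast; linear_combination (-2) * h7)]
      rfl

/-- a 5-cycle -/
def pz : Equiv.Perm (Fin 7) := c[0, 1, 2, 3, 4]

/-- an even permutation normalising it -/
def pt : Equiv.Perm (Fin 7) := c[1, 2, 4, 3] * c[5, 6]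

theorem pz_mem : pz ∈ alternatingGroup (Fin 7) := by
  rw [Equiv.Perm.mem_alternatingGroup]; decide +kernel

theorem pt_mem : pt ∈ alternatingGroup (Fin 7) := by
  rw [Equiv.Perm.mem_alternatingGroup]; decide +kernel

theorem pz_ne : pz ≠ 1 := by decide +kernel

theorem pz_pow : pz ^ 5 = 1 := by decide +kernel

theorem pt_rel : pt * pz * pt⁻¹ = pz ^ 2 := by decide +kernel

/-- `A₇` -/
theorem a7 {S : Type v} [Group S] (e : S ≃* alternatingGroup (Fin 7)) : Nat.card S = 2520 ∧
    Nat.card (MulAut S) = 5040 ∧ ∃ z t : S, z ≠ 1 ∧ z ^ 5 = 1 ∧ t * z * t⁻¹ = z ^ 2 := by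
  refine ⟨?_, ?_, ?_⟩
  · rw [Nat.card_congr e.toEquiv, nat_card_alternatingGroup, Nat.card_eq_fintype_card, Fintype.card_fin]
    rfl
  · rw [Nat.card_congr (MulAut.congr e).toEquiv,
      ← Nat.card_congr (Equiv.ofBijective _ (Cfsg.Agent.S2119.result 7 (by norm_num) (by norm_num))), Nat.card_perm,
      Nat.card_eq_fintype_card, Fintype.card_fin]
    rfl
  · refine ⟨e.symm ⟨pz, pz_mem⟩, e.symm ⟨pt, pt_mem⟩, ?_, ?_, ?_⟩
    · rw [Ne, MulEquiv.map_eq_one_iff]
      intro h
      exact pz_ne (congrArg Subtype.val h)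
    · rw [← map_pow, MulEquiv.map_eq_one_iff]
      exact Subtype.ext pz_pow
    · rw [← map_pow, ← map_inv, ← map_mul, ← map_mul]
      exact congrArg e.symm (Subtype.ext pt_rel)

end Cfsg.Agent.H333.QS6.Data

private theorem dce_8a053b368989 : _root_.True := by
  try have : _root_.True := by simp only [_root_.Matrix.ProjectiveSpecialLinearGroup.congr_simp]
  exact _root_.True.intro
end

-- part: H392/HT/SixL34
section
prune_inst 0x200000004800000000000000620000201000000000000000000005020008800000000000000004040200000000000000000000000000000000000000000000000000000000000000000000000000000000000000000000000000000000000000000000000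
set_option linter.all false
open scoped Cfsg.Agent.FastGrp

-- part: H333/QS6/Kill
section
/-!
# S3540, quasisimple rows: coverage by the elements of prime order `r`, `r` exactly dividing `|S|` (helper333)
-/

set_option autoImplicit false
set_option linter.unusedSectionVars false

universe u v w

namespace Cfsg.Agent.H333.QS6.Kill

open Module Cfsg.Agent.H952.F4 Cfsg.Agent.H337.HT Cfsg.Agent.H333.QS6.Rep Cfsg.Agent.H333.QS6.Lift
open Cfsg.Agent.H828.HT hiding ev

variable {p : ℕ} [Fact p.Prime] {K : Type w} [Field K] {V : Type u} [AddCommGroup V] [Module (ZMod p) V]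
    [Module K V] [Finite V] {G L : Subgroup (V ≃ₗ[ZMod p] V)} {h : ℕ} (H : QS p K V G L h)

include H

/-- central elements are scalars -/
theorem scalar_of_center {z : L} (hz : z ∈ Subgroup.center L) : ∃ ζ : K, ζ ≠ 0 ∧ ∀ v : V, rep H z v = ζ • v := by
  obtain ⟨ζ, hζ⟩ := H.endo ((z : V ≃ₗ[ZMod p] V) : V →ₗ[ZMod p] V) (by
    intro l hl v
    have h1 := Subgroup.mem_center_iff.1 hz ⟨l, hl⟩
    have h2 := congrArg (fun x : L => (x : V ≃ₗ[ZMod p] V) v) h1
    exact h2.symm)
  refine ⟨ζ, ?_, hζ⟩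
  rintro rfl
  obtain ⟨v, hv⟩ := Rep.exists_ne_zero H
  have h1 : (z : V ≃ₗ[ZMod p] V) v = 0 := by
    have := hζ v
    rw [zero_smul] at this
    exact this
  exact hv ((LinearEquiv.map_eq_zero_iff _).1 h1)

theorem ev_le_pow (x : L) (n : ℕ) (c : K) : ev (rep H x) c ≤ ev (rep H (x ^ n)) (c ^ n) := by
  have := fd H
  unfold ev
  apply Submodule.finrank_mono
  intro v hv
  rw [Module.End.mem_eigenspace_iff] at hv ⊢
  rw [map_pow]
  induction n with
  | zero => rw [pow_zero, pow_zero, one_smul]; rfl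
  | succ n ih => rw [pow_succ, Module.End.mul_apply, hv, map_smul, ih, smul_smul, pow_succ']

theorem ev_conj_eq (g x : L) (c : K) : ev (rep H (g * x * g⁻¹)) c = ev (rep H x) c := by
  have := fd H
  symm
  refine Eig.ev_conj (Y := rep H g) (Y' := rep H g⁻¹) ?_ ?_ ?_ c
  · rw [← map_mul, mul_inv_cancel, map_one]
  · rw [← map_mul, inv_mul_cancel, map_one]
  · rw [← map_mul, ← map_mul]
    congr 1
    group

theorem ev_mul_center (x : L) {z : L} {ζ : K} (hζ0 : ζ ≠ 0) (hζ : ∀ v : V, rep H z v = ζ • v) (c : K) :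
    ev (rep H (x * z)) c = ev (rep H x) (c * ζ⁻¹) := by
  suffices key : Module.End.eigenspace (rep H (x * z)) c = Module.End.eigenspace (rep H x) (c * ζ⁻¹) by
    unfold ev
    rw [key]
  ext v
  rw [Module.End.mem_eigenspace_iff, Module.End.mem_eigenspace_iff, map_mul, Module.End.mul_apply, hζ, map_smul]
  constructor
  · intro h1
    have h2 := congrArg (fun u => ζ⁻¹ • u) h1
    simp only [smul_smul] at h2
    rwa [inv_mul_cancel₀ hζ0, one_smul, mul_comm] at h2
  · intro h1
    rw [h1, smul_smul]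
    congr 1
    field_simp

/-- all elements `x ∉ Z`, `x ^ r ∈ Z`, have eigenspaces of dimension at most `d` if `x₁` has -/
theorem ev_le {r : ℕ} [Fact r.Prime] (hs : ¬ r ^ 2 ∣ Nat.card (L ⧸ Subgroup.center L)) {x₁ : L} (h1 : x₁ ^ r = 1)
    (h1z : x₁ ∉ Subgroup.center L) {d : ℕ} (hev : ∀ c : K, ev (rep H x₁) c ≤ d) {x : L}
    (hxz : x ∉ Subgroup.center L) (hx : x ^ r ∈ Subgroup.center L) (c : K) : ev (rep H x) c ≤ d := by
  obtain ⟨g, j, hj, z, hz, rfl⟩ := conj_form hs h1 h1z hxz hx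
  obtain ⟨ζ, hζ0, hζ⟩ := scalar_of_center H hz
  rw [ev_mul_center H _ hζ0 hζ, ev_conj_eq H]
  obtain ⟨m, hm⟩ := Nat.exists_mul_mod_eq_one_of_coprime hj (Fact.out : r.Prime).one_lt
  have h2 := ev_le_pow H (x₁ ^ j) m (c * ζ⁻¹)
  have h3 : (x₁ ^ j) ^ m = x₁ := by
    rw [← pow_mul, pow_eq_pow_mod _ h1, hm.2, pow_one]
  rw [h3] at h2
  exact h2.trans (hev _)

/-- **Coverage.** -/
theorem bound {r : ℕ} (hr : r.Prime) (hs : ¬ r ^ 2 ∣ Nat.card (L ⧸ Subgroup.center L))
    (hout : ¬ r ∣ Nat.card (MulAut (L ⧸ Subgroup.center L)) / Nat.card (L ⧸ Subgroup.center L)) {x₁ : L}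
    (h1 : x₁ ^ r = 1) (h1z : x₁ ∉ Subgroup.center L) {d k N : ℕ} (hev : ∀ c : K, ev (rep H x₁) c ≤ d)
    (hfix : 0 < ev (rep H x₁) 1) (hk : finrank K V ≤ k * d)
    (hN : Nat.card {R : Subgroup (L ⧸ Subgroup.center L) // Nat.card R = r} ≤ N) :
    Nat.card K ^ finrank K V - 1 ≤ N * k * (Nat.card K ^ d - 1) := by
  have hrf : Fact r.Prime := ⟨hr⟩
  have := finiteK H
  have hord : orderOf x₁ = r := orderOf_eq_prime h1 (fun h0 => h1z (h0 ▸ Subgroup.one_mem _))
  have hq : 0 < Nat.card K := Nat.card_pos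
  refine Cfsg.Agent.H578.HT.cov_card H hr (dvd_h_of_ev H hord hfix) hout ?_ hk hN
  intro x hxz hx c
  rw [card_eig H]
  exact Nat.pow_le_pow_right hq (ev_le H hs h1 h1z hev hxz hx c)

end Cfsg.Agent.H333.QS6.Kill
end

-- part: H333/QS6/Six
section
/-!
# S3540, quasisimple rows: `n = 6`, `S = A₇, L₂(7), L₂(13)` (helper333)
-/

set_option autoImplicit false
set_option linter.unusedSectionVars false

universe u v w

namespace Cfsg.Agent.H333.QS6.Six

open Module Cfsg.Agent.H952.F4 Cfsg.Agent.H337.HT Cfsg.Agent.H333.QS6.Rep Cfsg.Agent.H333.QS6.Lift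
  Cfsg.Agent.H333.QS6.Kill
open Cfsg.Agent.H828.HT hiding ev

variable {p : ℕ} [Fact p.Prime] {K : Type w} [Field K] {V : Type u} [AddCommGroup V] [Module (ZMod p) V]
    [Module K V] [Finite V] {G L : Subgroup (V ≃ₗ[ZMod p] V)} {h : ℕ}

/-- the prime `p` is at least `b` if all smaller primes divide `|S|` -/
theorem le_p (H : QS p K V G L h) {o b : ℕ} (ho : Nat.card (L ⧸ Subgroup.center L) = o)
    (hb : ∀ q < b, q.Prime → q ∣ o) : b ≤ Nat.card K := by
  refine le_trans ?_ (le_cardK H)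
  by_contra hlt
  exact not_dvd_S H (ho ▸ hb p (by omega) Fact.out)

/-- orbits of eigenvalues for `L` over `K` -/
theorem orb (H : QS p K V G L h) {m : ℕ} (hm : m.Prime) (hmS : m ∣ Nat.card (L ⧸ Subgroup.center L)) {z y : L}
    {a k : ℕ} (hz : z ^ m = 1) (hyz : y * z * y⁻¹ = z ^ a) (hk : orderOf (a : ZMod m) = k) (hk0 : 0 < k) :
    ∃ c, finrank K V = ev (rep H z) 1 + k * c ∧ ∀ μ : K, μ ≠ 1 → ev (rep H z) μ ≤ c := by
  have := fd H
  have h0 := ne_zero_of_dvd H hm hmS
  have h1 : (m : AlgebraicClosure K) ≠ 0 := by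
    rw [← map_natCast (algebraMap K (AlgebraicClosure K))]
    exact (map_ne_zero _).2 h0
  obtain ⟨c, hc1, hc2⟩ := Eig.orbits (bar (rep H)) hm h1 hz hyz hk hk0
  refine ⟨c, ?_, ?_⟩
  · rw [finrank_fin_fun, ev_bar_one] at hc1
    exact hc1
  · intro μ hμ
    rw [← ev_bar]
    refine hc2 _ ?_
    intro h2
    apply hμ
    rw [← map_one (algebraMap K (AlgebraicClosure K))] at h2
    exact (algebraMap K (AlgebraicClosure K)).injective h2

/-- Frobenius groups for `L` over `K` -/
theorem fro (H : QS p K V G L h) {m : ℕ} (hm : m.Prime) (hmS : m ∣ Nat.card (L ⧸ Subgroup.center L)) {z y : L}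
    {a k : ℕ} (hz : z ^ m = 1) (hyz : y * z * y⁻¹ = z ^ a) (hk : orderOf (a : ZMod m) = k) (hk0 : 0 < k)
    (hy : y ^ k = 1) (h0 : ev (rep H z) 1 = 0) :
    k * ev (rep H y) 1 = finrank K V ∧ ∀ c : K, k * ev (rep H y) c ≤ finrank K V := by
  have := fd H
  have h1 := ne_zero_of_dvd H hm hmS
  have h2 : (m : AlgebraicClosure K) ≠ 0 := by
    rw [← map_natCast (algebraMap K (AlgebraicClosure K))]
    exact (map_ne_zero _).2 h1
  have h3 : es (bar (rep H) z) 1 = ⊥ := by
    have h4 : ev (bar (rep H) z) 1 = 0 := by rw [ev_bar_one, h0]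
    exact Submodule.finrank_eq_zero.1 h4
  have key : ∀ μ : AlgebraicClosure K, μ ^ k = 1 → k * ev (bar (rep H) y) μ = finrank K V := by
    intro μ hμ
    have h5 := EigFr.frob (bar (rep H)) hm h2 hz hyz hk hk0 hy hμ
    rw [h3, bot_inf_eq, finrank_bot, mul_zero, zero_add, finrank_fin_fun, ev_bar_one, h0, add_zero] at h5
    exact h5
  refine ⟨?_, ?_⟩
  · rw [← ev_bar_one]
    exact key 1 (one_pow _)
  · intro c
    by_cases hc : c ^ k = 1
    · rw [← ev_bar]
      refine (key _ ?_).le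
      rw [← map_pow, hc, map_one]
    · have h6 : ev (rep H y) c = 0 := by
        have h7 : Module.End.eigenspace (rep H y) c = ⊥ := by
          rw [Submodule.eq_bot_iff]
          intro v hv
          rw [Module.End.mem_eigenspace_iff] at hv
          have h1 : ∀ n : ℕ, (rep H y ^ n) v = c ^ n • v := by
            intro n
            induction n with
            | zero => rw [pow_zero, pow_zero, one_smul]; rfl
            | succ n ih => rw [pow_succ, Module.End.mul_apply, hv, map_smul, ih, smul_smul, pow_succ']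
          have h2 := h1 k
          rw [← map_pow, hy, map_one] at h2
          have h3 : (c ^ k - 1) • v = 0 := by rw [sub_smul, one_smul, ← h2, Module.End.one_apply, sub_self]
          exact (smul_eq_zero.1 h3).resolve_left (sub_ne_zero.2 hc)
        unfold ev
        rw [h7, finrank_bot]
      rw [h6, mul_zero]
      exact Nat.zero_le _

/-- an element of `S` of prime order `r`, `r² ∤ |S|`, lifts -/
theorem lift {r : ℕ} (hr : r.Prime) (H : QS p K V G L h) (hs : ¬ r ^ 2 ∣ Nat.card (L ⧸ Subgroup.center L))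
    {s : L ⧸ Subgroup.center L} (h1 : s ^ r = 1) (h2 : s ≠ 1) :
    ∃ y : L, y ^ r = 1 ∧ (QuotientGroup.mk y : L ⧸ Subgroup.center L) = s ∧ y ∉ Subgroup.center L := by
  have : Fact r.Prime := ⟨hr⟩
  obtain ⟨y, hy1, hy2⟩ := exists_lift hr (not_dvd_center H.perf hs) h1
  refine ⟨y, hy1, hy2, ?_⟩
  rw [← QuotientGroup.eq_one_iff, hy2]
  exact h2

theorem ord_2_5 : orderOf ((2 : ℕ) : ZMod 5) = 4 := by
  rw [orderOf_eq_iff (by norm_num)]
  refine ⟨by rw [Nat.cast_ofNat]; decide, ?_⟩
  intro m hm hm0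
  rw [Nat.cast_ofNat]
  interval_cases m <;> decide

theorem ord_4_13 : orderOf ((4 : ℕ) : ZMod 13) = 6 := by
  rw [orderOf_eq_iff (by norm_num)]
  refine ⟨by rw [Nat.cast_ofNat]; decide, ?_⟩
  intro m hm hm0
  rw [Nat.cast_ofNat]
  interval_cases m <;> decide

theorem ord_9_13 : orderOf ((9 : ℕ) : ZMod 13) = 3 := by
  rw [orderOf_eq_iff (by norm_num)]
  refine ⟨by rw [Nat.cast_ofNat]; decide, ?_⟩
  intro m hm hm0
  rw [Nat.cast_ofNat]
  interval_cases m <;> decide

theorem ord_4_7 : orderOf ((4 : ℕ) : ZMod 7) = 3 := by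
  rw [orderOf_eq_iff (by norm_num)]
  refine ⟨by rw [Nat.cast_ofNat]; decide, ?_⟩
  intro m hm hm0
  rw [Nat.cast_ofNat]
  interval_cases m <;> decide

theorem arith2 {q N : ℕ} (hq : 2 ≤ q) (hb : q ^ 6 - 1 ≤ N * (q ^ 2 - 1)) : q ^ 4 + q ^ 2 + 1 ≤ N := by
  obtain ⟨a, ha⟩ : ∃ a, q ^ 2 = a + 1 := ⟨q ^ 2 - 1, by have := Nat.pow_le_pow_left hq 2; omega⟩
  have ha0 : 0 < a := by
    have := Nat.pow_le_pow_left hq 2
    omega
  have h1 : q ^ 6 = a * (q ^ 4 + q ^ 2 + 1) + 1 := by
    have h2 : q ^ 6 = (q ^ 2) ^ 3 := by ring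
    have h3 : q ^ 4 = (q ^ 2) ^ 2 := by ring
    rw [h2, h3, ha]; ring
  rw [h1, Nat.add_sub_cancel, show q ^ 2 - 1 = a by omega, mul_comm N a] at hb
  exact Nat.le_of_mul_le_mul_left hb ha0

theorem arith3 {q N : ℕ} (hq : 2 ≤ q) (hb : q ^ 6 - 1 ≤ N * (q ^ 3 - 1)) : q ^ 3 + 1 ≤ N := by
  obtain ⟨a, ha⟩ : ∃ a, q ^ 3 = a + 1 := ⟨q ^ 3 - 1, by have := Nat.pow_le_pow_left hq 3; omega⟩
  have ha0 : 0 < a := by
    have := Nat.pow_le_pow_left hq 3
    omega
  have h1 : q ^ 6 = a * (q ^ 3 + 1) + 1 := by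
    have h2 : q ^ 6 = (q ^ 3) ^ 2 := by ring
    rw [h2, ha]; ring
  rw [h1, Nat.add_sub_cancel, show q ^ 3 - 1 = a by omega, mul_comm N a] at hb
  exact Nat.le_of_mul_le_mul_left hb ha0

/-- `A₇` -/
theorem kill_six_A7 (H : QS p K V G L h) (hn : finrank K V = 6)
    (e : L ⧸ Subgroup.center L ≃* alternatingGroup (Fin 7)) : False := by
  obtain ⟨hS, hA, z', t', hz1, hz2, hrel⟩ := Data.a7 e
  have h5 : Fact (Nat.Prime 5) := ⟨Nat.prime_five⟩
  have hs : ¬ 5 ^ 2 ∣ Nat.card (L ⧸ Subgroup.center L) := by rw [hS]; norm_num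
  have hd : 5 ∣ Nat.card (L ⧸ Subgroup.center L) := by rw [hS]; norm_num
  have hfin := finiteK H
  obtain ⟨z, hz, rfl, hzc⟩ := lift Nat.prime_five H hs hz2 hz1
  obtain ⟨t, rfl⟩ := QuotientGroup.mk_surjective t'
  have hzt := lift_rel Nat.prime_five (not_dvd_center H.perf hs) hz hrel
  have hord := ord_2_5
  obtain ⟨c, hc1, hc2⟩ := orb H Nat.prime_five hd hz hzt hord (by norm_num)
  rw [hn] at hc1
  have hc : c = 1 := by
    rcases Nat.lt_or_ge c 1 with h | h
    · exfalso
      have h0 : c = 0 := by omega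
      rw [h0, mul_zero, add_zero] at hc1
      exact hzc ((eq_one_of_ev H (hc1.symm.trans hn.symm)) ▸ Subgroup.one_mem _)
    · omega
  subst hc
  have hev1 : ev (rep H z) 1 = 2 := by omega
  have hb := bound H Nat.prime_five hs (by rw [hA, hS]; norm_num) hz hzc (d := 2) (k := 3) (N := 126) (by
    intro μ
    by_cases hμ : μ = 1
    · rw [hμ, hev1]
    · exact (hc2 μ hμ).trans (by norm_num)) (by rw [hev1]; norm_num) (by rw [hn]) (by
    obtain ⟨h1, h2⟩ := card_order_spec hs hd
    rw [hS] at h1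
    set N := Nat.card {R : Subgroup (L ⧸ Subgroup.center L) // Nat.card R = 5}
    obtain ⟨m, hm⟩ := h1
    norm_num at hm
    by_contra hlt
    have hm4 : m < 4 := by nlinarith only [hm, hlt]
    interval_cases m <;> omega)
  rw [hn] at hb
  have hq : 11 ≤ Nat.card K := le_p H hS (by
    intro q hq hqp
    interval_cases q <;> first | (exfalso; revert hqp; decide) | decide)
  have h6 := arith2 (by omega) hb
  have h7 : 11 ^ 4 ≤ Nat.card K ^ 4 := Nat.pow_le_pow_left hq 4
  omega

/-- `L₂(13)` -/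
theorem kill_six_L213 (H : QS p K V G L h) (hn : finrank K V = 6)
    (hL : Cfsg.Agent.H912.Bd.IsL 2 13 (L ⧸ Subgroup.center L)) : False := by
  obtain ⟨hS, hA, z', t', x', hz1, hz2, hrel, hx2, hrel2⟩ := Data.l213 hL
  have h13p : Nat.Prime 13 := by norm_num
  have h13 : Fact (Nat.Prime 13) := ⟨h13p⟩
  have h3 : Fact (Nat.Prime 3) := ⟨Nat.prime_three⟩
  have hs : ¬ 13 ^ 2 ∣ Nat.card (L ⧸ Subgroup.center L) := by rw [hS]; norm_num
  have hd : 13 ∣ Nat.card (L ⧸ Subgroup.center L) := by rw [hS]; norm_num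
  have hs3 : ¬ 3 ^ 2 ∣ Nat.card (L ⧸ Subgroup.center L) := by rw [hS]; norm_num
  have hd3 : 3 ∣ Nat.card (L ⧸ Subgroup.center L) := by rw [hS]; norm_num
  have hfin := finiteK H
  have hx1 : x' ≠ 1 := by
    rintro rfl
    rw [one_mul, inv_one, mul_one] at hrel2
    have h8 : z' ^ 8 = 1 := by
      have : z' * z' ^ 8 = z' * 1 := by rw [mul_one, ← pow_succ']; exact hrel2.symm
      exact mul_left_cancel this
    have ho := orderOf_eq_prime hz2 hz1
    have := orderOf_dvd_of_pow_eq_one h8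
    rw [ho] at this
    norm_num at this
  obtain ⟨z, hz, rfl, hzc⟩ := lift h13p H hs hz2 hz1
  obtain ⟨x, hx, rfl, hxc⟩ := lift Nat.prime_three H hs3 hx2 hx1
  obtain ⟨t, rfl⟩ := QuotientGroup.mk_surjective t'
  have hzt := lift_rel h13p (not_dvd_center H.perf hs) hz hrel
  have hzx := lift_rel h13p (not_dvd_center H.perf hs) hz hrel2
  have hord := ord_4_13
  have hord2 := ord_9_13
  obtain ⟨c, hc1, hc2⟩ := orb H h13p hd hz hzt hord (by norm_num)
  rw [hn] at hc1
  have hc : c = 1 := by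
    rcases Nat.lt_or_ge c 1 with h | h
    · exfalso
      have h0 : c = 0 := by omega
      rw [h0, mul_zero, add_zero] at hc1
      exact hzc ((eq_one_of_ev H (hc1.symm.trans hn.symm)) ▸ Subgroup.one_mem _)
    · omega
  subst hc
  have hev1 : ev (rep H z) 1 = 0 := by omega
  obtain ⟨hf1, hf2⟩ := fro H h13p hd hz hzx hord2 (by norm_num) hx hev1
  rw [hn] at hf1 hf2
  have hsim := H.simple
  have hb := bound H Nat.prime_three hs3 (by rw [hA, hS]; norm_num) hx hxc (d := 2) (k := 3) (N := 91) (by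
    intro μ
    have := hf2 μ
    omega) (by omega) (by rw [hn]) (by
    obtain ⟨h1, h2⟩ := card_order_spec hs3 hd3
    have h3 := card_order_ne hs3 hd3 (by rw [hS]; norm_num)
    rw [hS] at h1 h3
    set N := Nat.card {R : Subgroup (L ⧸ Subgroup.center L) // Nat.card R = 3}
    obtain ⟨m, hm⟩ := h1
    norm_num at hm h3
    by_contra hlt
    have hm4 : m < 4 := by nlinarith only [hm, hlt]
    interval_cases m <;> omega)
  rw [hn] at hb
  have hq : 5 ≤ Nat.card K := le_p H hS (by
    intro q hq hqp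
    interval_cases q <;> first | (exfalso; revert hqp; decide) | decide)
  have h6 := arith2 (by omega) hb
  have h7 : 5 ^ 4 ≤ Nat.card K ^ 4 := Nat.pow_le_pow_left hq 4
  omega

/-- `L₂(7)` -/
theorem kill_six_L27 (H : QS p K V G L h) (hn : finrank K V = 6)
    (hL : Cfsg.Agent.H912.Bd.IsL 2 7 (L ⧸ Subgroup.center L)) : False := by
  obtain ⟨hS, hA, z', x', hz1, hz2, hx2, hrel⟩ := Data.l27 hL
  have h7p : Nat.Prime 7 := by norm_num
  have h7f : Fact (Nat.Prime 7) := ⟨h7p⟩
  have h3 : Fact (Nat.Prime 3) := ⟨Nat.prime_three⟩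
  have hs : ¬ 7 ^ 2 ∣ Nat.card (L ⧸ Subgroup.center L) := by rw [hS]; norm_num
  have hd : 7 ∣ Nat.card (L ⧸ Subgroup.center L) := by rw [hS]; norm_num
  have hs3 : ¬ 3 ^ 2 ∣ Nat.card (L ⧸ Subgroup.center L) := by rw [hS]; norm_num
  have hd3 : 3 ∣ Nat.card (L ⧸ Subgroup.center L) := by rw [hS]; norm_num
  have hfin := finiteK H
  have hx1 : x' ≠ 1 := by
    rintro rfl
    rw [one_mul, inv_one, mul_one] at hrel
    have h8 : z' ^ 3 = 1 := by
      have : z' * z' ^ 3 = z' * 1 := by rw [mul_one, ← pow_succ']; exact hrel.symm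
      exact mul_left_cancel this
    have ho := orderOf_eq_prime hz2 hz1
    have := orderOf_dvd_of_pow_eq_one h8
    rw [ho] at this
    norm_num at this
  obtain ⟨z, hz, rfl, hzc⟩ := lift h7p H hs hz2 hz1
  obtain ⟨x, hx, rfl, hxc⟩ := lift Nat.prime_three H hs3 hx2 hx1
  have hzx := lift_rel h7p (not_dvd_center H.perf hs) hz hrel
  have hord := ord_4_7
  obtain ⟨c, hc1, hc2⟩ := orb H h7p hd hz hzx hord (by norm_num)
  rw [hn] at hc1
  have hsim := H.simple
  have hq : 5 ≤ Nat.card K := le_p H hS (by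
    intro q hq hqp
    interval_cases q <;> first | (exfalso; revert hqp; decide) | decide)
  have hc : c = 1 ∨ c = 2 := by
    rcases Nat.lt_or_ge c 1 with h | h
    · exfalso
      have h0 : c = 0 := by omega
      rw [h0, mul_zero, add_zero] at hc1
      exact hzc ((eq_one_of_ev H (hc1.symm.trans hn.symm)) ▸ Subgroup.one_mem _)
    · omega
  rcases hc with rfl | rfl
  · have hev1 : ev (rep H z) 1 = 3 := by omega
    have hb := bound H h7p hs (by rw [hA, hS]; norm_num) hz hzc (d := 3) (k := 2) (N := 8) (by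
      intro μ
      by_cases hμ : μ = 1
      · rw [hμ, hev1]
      · exact (hc2 μ hμ).trans (by norm_num)) (by rw [hev1]; norm_num) (by rw [hn]) (by
      obtain ⟨h1, h2⟩ := card_order_spec hs hd
      rw [hS] at h1
      set N := Nat.card {R : Subgroup (L ⧸ Subgroup.center L) // Nat.card R = 7}
      obtain ⟨m, hm⟩ := h1
      norm_num at hm
      by_contra hlt
      have hm4 : m < 3 := by nlinarith only [hm, hlt]
      interval_cases m <;> omega)
    rw [hn] at hb
    have h6 := arith3 (by omega) hb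
    have h7 : 5 ^ 3 ≤ Nat.card K ^ 3 := Nat.pow_le_pow_left hq 3
    omega
  · have hev1 : ev (rep H z) 1 = 0 := by omega
    obtain ⟨hf1, hf2⟩ := fro H h7p hd hz hzx hord (by norm_num) hx hev1
    rw [hn] at hf1 hf2
    have hb := bound H Nat.prime_three hs3 (by rw [hA, hS]; norm_num) hx hxc (d := 2) (k := 3) (N := 28) (by
      intro μ
      have := hf2 μ
      omega) (by omega) (by rw [hn]) (by
      obtain ⟨h1, h2⟩ := card_order_spec hs3 hd3
      rw [hS] at h1
      set N := Nat.card {R : Subgroup (L ⧸ Subgroup.center L) // Nat.card R = 3}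
      obtain ⟨m, hm⟩ := h1
      norm_num at hm
      by_contra hlt
      have hm4 : m < 2 := by nlinarith only [hm, hlt]
      interval_cases m <;> omega)
    rw [hn] at hb
    have h6 := arith2 (by omega) hb
    have h7 : 5 ^ 4 ≤ Nat.card K ^ 4 := Nat.pow_le_pow_left hq 4
    omega

end Cfsg.Agent.H333.QS6.Six
end

-- part: H392/HT/Pairs
section
/-!
# Anticommuting pairs and cyclic shifts of commuting involutions in dimension six (helper392, S3540 row `L₃(4)`)
-/

set_option autoImplicit false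
set_option linter.unusedSectionVars false

universe u v

namespace Cfsg.Agent.H392.HT

open Module

section pairs

variable {k : Type u} [Field k] {W : Type v} [AddCommGroup W] [Module k W] [FiniteDimensional k W]

/-- two independent anticommuting pairs need a dimension divisible by four -/
theorem no_pairs [IsAlgClosed k] (h2 : (2 : k) ≠ 0) (hW : finrank k W = 6) {A B C D : Module.End k W} {α : k}
    (hα : α ≠ 0) (hA : A * A = α • 1) (hB : Function.Injective B) (hC : Function.Injective C)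
    (hD : Function.Injective D) (hAB : A * B = -(B * A)) (hCD : C * D = -(D * C)) (hAC : A * C = C * A)
    (hAD : A * D = D * A) : False := by
  obtain ⟨β, hβ⟩ := IsAlgClosed.exists_pow_nat_eq α (n := 2) (by norm_num)
  have hβ0 : β ≠ 0 := by
    rintro rfl
    apply hα
    rw [← hβ, zero_pow (by norm_num)]
  have hAv : ∀ v, A (A v) = (β ^ 2) • v := by
    intro v
    have := congrArg (fun T : Module.End k W => T v) hA
    rw [hβ]
    exact this
  set E := Module.End.eigenspace A β with hE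
  set E' := Module.End.eigenspace A (-β) with hE'
  have hAB' : ∀ v, A (B v) = -(B (A v)) := fun v => congrArg (fun T : Module.End k W => T v) hAB
  have hBE : ∀ v ∈ E, B v ∈ E' := by
    intro v hv
    rw [hE, Module.End.mem_eigenspace_iff] at hv
    rw [hE', Module.End.mem_eigenspace_iff, hAB', hv, map_smul, neg_smul]
  have hBE' : ∀ v ∈ E', B v ∈ E := by
    intro v hv
    rw [hE', Module.End.mem_eigenspace_iff] at hv
    rw [hE, Module.End.mem_eigenspace_iff, hAB', hv, map_smul, neg_smul, neg_neg]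
  have h1 : finrank k E ≤ finrank k E' :=
    LinearMap.finrank_le_finrank_of_injective (f := B.restrict hBE) (fun x y hxy => by
      have := congrArg Subtype.val hxy
      exact Subtype.ext (hB this))
  have h1' : finrank k E' ≤ finrank k E :=
    LinearMap.finrank_le_finrank_of_injective (f := B.restrict hBE') (fun x y hxy => by
      have := congrArg Subtype.val hxy
      exact Subtype.ext (hB this))
  have hinf : E ⊓ E' = ⊥ := by
    rw [eq_bot_iff]
    rintro v ⟨hv, hv'⟩
    rw [SetLike.mem_coe, hE, Module.End.mem_eigenspace_iff] at hv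
    rw [SetLike.mem_coe, hE', Module.End.mem_eigenspace_iff] at hv'
    rw [hv] at hv'
    have h3 : (2 * β) • v = 0 := by
      have h4 : β • v - (-β) • v = 0 := sub_eq_zero.2 hv'
      rw [← sub_smul] at h4
      rwa [show 2 * β = β - -β by ring]
    exact (Submodule.mem_bot k).2 ((smul_eq_zero.1 h3).resolve_left (mul_ne_zero h2 hβ0))
  have hsup : E ⊔ E' = ⊤ := by
    rw [eq_top_iff]
    intro v _
    have h3 : v = (2 * β)⁻¹ • (β • v + A v) + (2 * β)⁻¹ • (β • v - A v) := by
      rw [← smul_add]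
      have : β • v + A v + (β • v - A v) = (2 * β) • v := by
        rw [two_mul, add_smul]; abel
      rw [this, smul_smul, inv_mul_cancel₀ (mul_ne_zero h2 hβ0), one_smul]
    rw [h3]
    refine Submodule.add_mem_sup (Submodule.smul_mem _ _ ?_) (Submodule.smul_mem _ _ ?_)
    · rw [hE, Module.End.mem_eigenspace_iff, map_add, map_smul, hAv, smul_add, smul_smul, pow_two, add_comm]
    · rw [hE', Module.End.mem_eigenspace_iff, map_sub, map_smul, hAv, smul_sub, smul_smul, pow_two, neg_smul,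
        neg_mul, neg_smul]
      abel
  have hdim : finrank k E = 3 := by
    have h3 := Submodule.finrank_sup_add_finrank_inf_eq E E'
    rw [hsup, hinf, finrank_bot, finrank_top, hW] at h3
    omega
  have hmap : ∀ {T : Module.End k W}, A * T = T * A → ∀ v ∈ E, T v ∈ E := by
    intro T hT v hv
    rw [hE, Module.End.mem_eigenspace_iff] at hv ⊢
    have h3 : A (T v) = T (A v) := congrArg (fun T : Module.End k W => T v) hT
    rw [h3, hv, map_smul]
  let C' := C.restrict (hmap hAC)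
  let D' := D.restrict (hmap hAD)
  have hCi : LinearMap.det C' ≠ 0 := by
    intro h0
    have := LinearMap.bot_lt_ker_of_det_eq_zero h0
    obtain ⟨x, hx, hx0⟩ := Submodule.exists_mem_ne_zero_of_ne_bot this.ne'
    apply hx0
    have h3 : C x.1 = 0 := congrArg Subtype.val (LinearMap.mem_ker.1 hx)
    exact Subtype.ext (hC (by rw [h3]; exact (map_zero C).symm))
  have hDi : LinearMap.det D' ≠ 0 := by
    intro h0
    have := LinearMap.bot_lt_ker_of_det_eq_zero h0
    obtain ⟨x, hx, hx0⟩ := Submodule.exists_mem_ne_zero_of_ne_bot this.ne'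
    apply hx0
    have h3 : D x.1 = 0 := congrArg Subtype.val (LinearMap.mem_ker.1 hx)
    exact Subtype.ext (hD (by rw [h3]; exact (map_zero D).symm))
  have hcd : C' * D' = (-1 : k) • (D' * C') := by
    ext x
    have h3 : C (D x.1) = -(D (C x.1)) := congrArg (fun T : Module.End k W => T x.1) hCD
    rw [LinearMap.smul_apply, Submodule.coe_smul]
    change C (D x.1) = (-1 : k) • (D (C x.1))
    rw [h3, neg_one_smul]
  have h3 := congrArg LinearMap.det hcd
  rw [LinearMap.det_smul, map_mul, map_mul, hdim] at h3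
  have h4 : (2 : k) * (LinearMap.det C' * LinearMap.det D') = 0 := by
    linear_combination h3
  exact (mul_ne_zero h2 (mul_ne_zero hCi hDi)) h4

end pairs

section shift

variable {k : Type u} [Field k] {W : Type v} [AddCommGroup W] [Module k W] [FiniteDimensional k W]

theorem step {n : Module.End k W} (hn : n * n = 1) {w : W} (hw : w ≠ 0) :
    ∃ w' : W, w' ≠ 0 ∧ (∃ b : Bool, n w' = (bif b then (-1 : k) else 1) • w') ∧
      ∀ m : Module.End k W, m * n = n * m → ∀ c : k, m w = c • w → m w' = c • w' := by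
  have hnn : ∀ v, n (n v) = v := fun v => congrArg (fun T : Module.End k W => T v) hn
  by_cases h : w + n w = 0
  · refine ⟨w, hw, ⟨true, ?_⟩, fun m _ c hc => hc⟩
    rw [cond_true, neg_one_smul]
    exact (neg_eq_of_add_eq_zero_right h).symm
  · refine ⟨w + n w, h, ⟨false, ?_⟩, ?_⟩
    · rw [cond_false, one_smul, map_add, hnn, add_comm]
    · intro m hm c hc
      have h3 : m (n w) = n (m w) := congrArg (fun T : Module.End k W => T w) hm
      rw [map_add, h3, hc, map_smul, smul_add]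

/-- the signs -/
theorem shifts_ne : ∀ s : ZMod 5 → Bool, s 0 = true → (s 0 ^^ s 1 ^^ s 2 ^^ s 3 ^^ s 4) = false →
    ∀ i i' : ZMod 5, i ≠ i' → ∃ j : ZMod 5, s (j - i) ≠ s (j - i') := by decide +kernel

/-- a cyclic shift of five commuting involutions with product one, in dimension six -/
theorem shift (h2 : (2 : k) ≠ 0) (hW : finrank k W = 6) {X : Module.End k W} {N : ZMod 5 → Module.End k W}
    (hX : X ^ 5 = 1) (hN : ∀ i, X * N i = N (i + 1) * X) (hsq : ∀ i, N i * N i = 1)
    (hcomm : ∀ i j, N i * N j = N j * N i) (hprod : N 0 * N 1 * N 2 * N 3 * N 4 = 1) (hne : N 0 ≠ 1) :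
    (∃ u : W, u ≠ 0 ∧ X u = u) ∧ ∀ c : k, finrank k (Module.End.eigenspace X c) ≤ 2 := by
  -- a common eigenvector
  obtain ⟨w, hw, s, hs, hs0⟩ : ∃ w : W, w ≠ 0 ∧ ∃ s : ZMod 5 → Bool,
      (∀ i, N i w = (bif s i then (-1 : k) else 1) • w) ∧ s 0 = true := by
    obtain ⟨w₀, h0, h0'⟩ : ∃ w₀ : W, w₀ ≠ 0 ∧ N 0 w₀ = (-1 : k) • w₀ := by
      obtain ⟨v, hv⟩ : ∃ v, N 0 v ≠ v := by
        by_contra hc
        push Not at hc
        exact hne (LinearMap.ext hc)
      refine ⟨N 0 v - v, sub_ne_zero.2 hv, ?_⟩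
      have hnn : N 0 (N 0 v) = v := congrArg (fun T : Module.End k W => T v) (hsq 0)
      rw [map_sub, hnn, neg_one_smul, neg_sub]
    obtain ⟨w₁, h1, ⟨b1, hb1⟩, p1⟩ := step (k := k) (hsq 1) h0
    obtain ⟨w₂, h2', ⟨b2, hb2⟩, p2⟩ := step (k := k) (hsq 2) h1
    obtain ⟨w₃, h3, ⟨b3, hb3⟩, p3⟩ := step (k := k) (hsq 3) h2'
    obtain ⟨w₄, h4, ⟨b4, hb4⟩, p4⟩ := step (k := k) (hsq 4) h3
    refine ⟨w₄, h4, (![true, b1, b2, b3, b4] : Fin 5 → Bool), ?_, rfl⟩
    have e0 : N 0 w₄ = (-1 : k) • w₄ :=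
      p4 _ (hcomm _ _) _ (p3 _ (hcomm _ _) _ (p2 _ (hcomm _ _) _ (p1 _ (hcomm _ _) _ h0')))
    have e1 := p4 _ (hcomm _ _) _ (p3 _ (hcomm _ _) _ (p2 _ (hcomm _ _) _ hb1))
    have e2 := p4 _ (hcomm _ _) _ (p3 _ (hcomm _ _) _ hb2)
    have e3 := p4 _ (hcomm _ _) _ hb3
    intro i
    have key : ∀ i : Fin 5, N i w₄ = (bif (![true, b1, b2, b3, b4] : Fin 5 → Bool) i then (-1 : k) else 1) • w₄ := by
      intro i
      fin_cases i
      · exact e0
      · exact e1
      · exact e2
      · exact e3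
      · exact hb4
    exact key i
  have hne1 : (-1 : k) ≠ 1 := by
    intro h
    apply h2
    linear_combination -h
  have hpar : (s 0 ^^ s 1 ^^ s 2 ^^ s 3 ^^ s 4) = false := by
    have h3 := congrArg (fun T : Module.End k W => T w) hprod
    have h4 : N 0 (N 1 (N 2 (N 3 (N 4 w)))) = w := h3
    have hs' : ∀ (i : ZMod 5) (c : k), N i (c • w) = (c * (bif s i then (-1 : k) else 1)) • w := by
      intro i c
      rw [map_smul, hs, smul_smul]
    rw [hs 4, hs', hs', hs', hs'] at h4
    by_contra hc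
    have h5 : ((bif s 4 then (-1 : k) else 1) * (bif s 3 then (-1 : k) else 1) * (bif s 2 then (-1 : k) else 1) *
        (bif s 1 then (-1 : k) else 1) * (bif s 0 then (-1 : k) else 1)) = -1 := by
      revert hc
      cases s 0 <;> cases s 1 <;> cases s 2 <;> cases s 3 <;> cases s 4 <;> simp
    rw [h5] at h4
    have h6 : (-1 : k) • w = (1 : k) • w := by rw [h4, one_smul]
    exact hne1 (smul_left_injective k hw h6)
  -- the shifts
  have hNX : ∀ (m : ℕ) (j : ZMod 5), N j * X ^ m = X ^ m * N (j - (m : ZMod 5)) := by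
    intro m
    induction m with
    | zero => intro j; simp
    | succ m ih =>
      intro j
      have h3 : N j * X = X * N (j - 1) := by
        rw [hN (j - 1), sub_add_cancel]
      have h5 : j - 1 - (m : ZMod 5) = j - ((m + 1 : ℕ) : ZMod 5) := by push_cast; ring
      rw [pow_succ', ← mul_assoc, h3, mul_assoc, ih, h5, ← mul_assoc]
  let v : ZMod 5 → W := fun i => (X ^ i.val) w
  have hXinj : Function.Injective X := by
    intro a b hab
    have h3 : ∀ z, (X ^ 4) (X z) = z := by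
      intro z
      have := congrArg (fun T : Module.End k W => T z) hX
      rw [pow_succ] at this
      exact this
    rw [← h3 a, ← h3 b, hab]
  have hv0 : ∀ i, v i ≠ 0 := by
    intro i h0
    have h3 : ∀ m : ℕ, Function.Injective (X ^ m) := by
      intro m
      induction m with
      | zero => rw [pow_zero]; exact fun a b h => h
      | succ m ih => rw [pow_succ]; exact ih.comp hXinj
    exact hw (h3 i.val (by rw [map_zero]; exact h0))
  have hNv : ∀ i j : ZMod 5, N j (v i) = (bif s (j - i) then (-1 : k) else 1) • v i := by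
    intro i j
    have h3 := congrArg (fun T : Module.End k W => T w) (hNX i.val j)
    have h4 : N j (v i) = (X ^ i.val) (N (j - ((i.val : ℕ) : ZMod 5)) w) := h3
    rw [h4, ZMod.natCast_zmod_val, hs, map_smul]
  have hli : LinearIndependent k v := by
    let χ : ZMod 5 → (ZMod 5 → k) := fun i j => bif s (j - i) then (-1 : k) else 1
    have hχ : Function.Injective χ := by
      intro i i' h
      by_contra hc
      obtain ⟨j, hj⟩ := shifts_ne s hs0 hpar i i' hc
      have h3 : (bif s (j - i) then (-1 : k) else 1) = (bif s (j - i') then (-1 : k) else 1) := congrFun h j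
      revert h3 hj
      cases s (j - i) <;> cases s (j - i') <;> simp [hne1, hne1.symm]
    have hind := Module.End.independent_iInf_maxGenEigenspace_of_forall_mapsTo N (fun i j φ =>
      Module.End.mapsTo_maxGenEigenspace_of_comm (hcomm j i) φ)
    refine (hind.comp hχ).linearIndependent _ (fun i => ?_) hv0
    rw [Function.comp_apply, Submodule.mem_iInf]
    intro j
    rw [Module.End.mem_maxGenEigenspace]
    refine ⟨1, ?_⟩
    rw [pow_one, LinearMap.sub_apply, hNv, LinearMap.smul_apply, Module.End.one_apply, sub_self]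
  have hvm : ∀ m : ℕ, (X ^ m) w = v (m : ZMod 5) := by
    intro m
    change (X ^ m) w = (X ^ ((m : ZMod 5).val)) w
    rw [ZMod.val_natCast, ← pow_eq_pow_mod m hX]
  have hXv : ∀ i, X (v i) = v (i + 1) := by
    intro i
    have h3 : X (v i) = (X ^ (i.val + 1)) w := by rw [pow_succ']; rfl
    rw [h3, hvm]
    push_cast
    rw [ZMod.natCast_zmod_val]
  let Φ : (ZMod 5 → k) →ₗ[k] W := Fintype.linearCombination k v
  have hΦ : Function.Injective Φ := linearIndependent_iff_injective_fintypeLinearCombination.1 hli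
  have hXΦ : ∀ t : ZMod 5 → k, X (Φ t) = Φ (fun i => t (i - 1)) := by
    intro t
    change X (∑ i, t i • v i) = ∑ i, t (i - 1) • v i
    rw [map_sum, ← Equiv.sum_comp (Equiv.addRight (1 : ZMod 5)) (fun i => t (i - 1) • v i)]
    refine Finset.sum_congr rfl fun i _ => ?_
    rw [map_smul, hXv, Equiv.coe_addRight, add_sub_cancel_right]
  refine ⟨⟨Φ (fun _ => 1), ?_, hXΦ _⟩, fun c => ?_⟩
  · intro h0
    have h3 := hΦ (h0.trans (map_zero Φ).symm)
    exact one_ne_zero (congrFun h3 0)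
  · let E' : Submodule k (ZMod 5 → k) :=
      { carrier := {t | ∀ i, t (i - 1) = c * t i}
        add_mem' := by
          intro a b ha hb i
          simp only [Set.mem_ofPred_eq, Pi.add_apply] at ha hb ⊢
          rw [ha, hb, mul_add]
        zero_mem' := by intro i; simp
        smul_mem' := by
          intro d a ha i
          simp only [Set.mem_ofPred_eq, Pi.smul_apply, smul_eq_mul] at ha ⊢
          rw [ha]; ring }
    have hE1 : finrank k E' ≤ 1 := by
      let f : E' →ₗ[k] k := (LinearMap.proj (0 : ZMod 5)).comp E'.subtype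
      have hf : Function.Injective f := by
        rw [← LinearMap.ker_eq_bot, LinearMap.ker_eq_bot']
        intro t ht
        have ht0 : t.1 0 = 0 := ht
        have h3 : ∀ m : ℕ, t.1 (-(m : ZMod 5)) = 0 := by
          intro m
          induction m with
          | zero => simpa using ht0
          | succ m ih =>
            have h4 := t.2 (-(m : ZMod 5))
            rw [ih, mul_zero] at h4
            have h5 : -((m + 1 : ℕ) : ZMod 5) = -(m : ZMod 5) - 1 := by push_cast; ring
            rw [h5]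
            exact h4
        apply Subtype.ext
        funext i
        have h4 := h3 (-i).val
        rw [ZMod.natCast_zmod_val, neg_neg] at h4
        exact h4
      have := LinearMap.finrank_le_finrank_of_injective hf
      rwa [finrank_self] at this
    have hle : Module.End.eigenspace X c ⊓ LinearMap.range Φ ≤ E'.map Φ := by
      rintro _ ⟨hu, t, rfl⟩
      refine ⟨t, fun i => ?_, rfl⟩
      rw [SetLike.mem_coe, Module.End.mem_eigenspace_iff, hXΦ, ← map_smul] at hu
      exact congrFun (hΦ hu) i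
    have h3 := Submodule.finrank_mono hle
    have h4 := Submodule.finrank_map_le Φ E'
    have h5 := Submodule.finrank_sup_add_finrank_inf_eq (Module.End.eigenspace X c) (LinearMap.range Φ)
    have h6 : finrank k (LinearMap.range Φ) = 5 := by
      rw [LinearMap.finrank_range_of_inj hΦ, Module.finrank_fintype_fun_eq_card, ZMod.card]
    have h7 := Submodule.finrank_le (Module.End.eigenspace X c ⊔ LinearMap.range Φ)
    rw [hW] at h7
    rw [h6] at h5
    omega

end shift

end Cfsg.Agent.H392.HT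
end

-- part: H392/HT/SixL34
section
/-!
# S3540, quasisimple rows, degree 6: `L₃(4)` (helper392)
-/

set_option autoImplicit false
set_option linter.unusedSectionVars false

universe u v w

namespace Cfsg.Agent.H392.HT

open Module Cfsg.Agent.H952.F4 Cfsg.Agent.H337.HT Cfsg.Agent.H333.QS6.Rep Cfsg.Agent.H333.QS6.Lift
open Cfsg.Agent.H333.QS6.Kill Cfsg.Agent.H333.QS6.Six
open Cfsg.Agent.H828.HT hiding ev

/-! ### `PSL₃(4)` -/

section data

variable {F : Type v} [Field F]

/-- the unipotent elements of the point stabiliser -/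
def tv (a b : F) : Matrix.SpecialLinearGroup (Fin 3) F := ⟨!![1, 0, a; 0, 1, b; 0, 0, 1], by simp [Matrix.det_fin_three]⟩

theorem tv_mul (a b c d : F) : tv a b * tv c d = tv (a + c) (b + d) := by
  apply Subtype.ext
  rw [Matrix.SpecialLinearGroup.coe_mul]
  change !![1, 0, a; 0, 1, b; 0, 0, 1] * !![1, 0, c; 0, 1, d; 0, 0, 1] = !![1, 0, a + c; 0, 1, b + d; 0, 0, 1]
  ext i j
  fin_cases i <;> fin_cases j <;> simp [Matrix.mul_apply, Fin.sum_univ_three, add_comm]

/-- `diag ((0, 1; 1, w), 1)` in characteristic two -/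
def xm (w : F) (h2 : (2 : F) = 0) : Matrix.SpecialLinearGroup (Fin 3) F := ⟨!![0, 1, 0; 1, w, 0; 0, 0, 1], by
  simp [Matrix.det_fin_three]
  linear_combination -h2⟩

theorem xm_tv (w : F) (h2 : (2 : F) = 0) (a b : F) : xm w h2 * tv a b = tv b (a + w * b) * xm w h2 := by
  apply Subtype.ext
  rw [Matrix.SpecialLinearGroup.coe_mul, Matrix.SpecialLinearGroup.coe_mul]
  change !![0, 1, 0; 1, w, 0; 0, 0, 1] * !![1, 0, a; 0, 1, b; 0, 0, 1] =
    !![1, 0, b; 0, 1, a + w * b; 0, 0, 1] * !![0, 1, 0; 1, w, 0; 0, 0, 1]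
  ext i j
  (revert i j; simp only [Matrix.mul_apply, Fin.sum_univ_three, _root_.Fin.forall_fin_succ, _root_.Matrix.of_apply, _root_.Matrix.cons_val', _root_.Matrix.cons_val_fin_one, Fin.isValue, _root_.Matrix.cons_val_zero, _root_.Matrix.cons_val_one, _root_.Matrix.cons_val, _root_.mul_one, _root_.MulZeroClass.mul_zero, _root_.add_zero, _root_.zero_add, _root_.Matrix.cons_val_succ, _root_.forall_const, _root_.true_and, _root_.MulZeroClass.zero_mul, _root_.one_mul, _root_.and_self, _root_.implies_true])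

theorem xm_five (w : F) (h2 : (2 : F) = 0) (hw : w ^ 2 + w + 1 = 0) : xm w h2 ^ 5 = 1 := by
  apply Subtype.ext
  rw [pow_succ, pow_succ, pow_succ, pow_two, Matrix.SpecialLinearGroup.coe_mul, Matrix.SpecialLinearGroup.coe_mul,
    Matrix.SpecialLinearGroup.coe_mul, Matrix.SpecialLinearGroup.coe_mul]
  change !![0, 1, 0; 1, w, 0; 0, 0, 1] * !![0, 1, 0; 1, w, 0; 0, 0, 1] * !![0, 1, 0; 1, w, 0; 0, 0, 1] *
    !![0, 1, 0; 1, w, 0; 0, 0, 1] * !![0, 1, 0; 1, w, 0; 0, 0, 1] = (1 : Matrix (Fin 3) (Fin 3) F)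
  ext i j
  (revert i j; simp only [Matrix.mul_apply, Fin.sum_univ_three, _root_.Fin.forall_fin_succ, _root_.Matrix.cons_mul, _root_.Nat.succ_eq_add_one, Nat.reduceAdd, _root_.Matrix.vecMul_cons, _root_.Matrix.head_cons, _root_.zero_smul, _root_.Matrix.tail_cons, _root_.one_smul, _root_.Matrix.empty_vecMul, _root_.add_zero, _root_.zero_add, _root_.Matrix.smul_cons, _root_.smul_eq_mul, _root_.mul_one, _root_.MulZeroClass.mul_zero, _root_.Matrix.smul_empty, _root_.Matrix.add_cons, _root_.Matrix.empty_add_empty, _root_.Matrix.empty_mul, _root_.Equiv.symm_apply_apply, _root_.Matrix.of_apply, _root_.Matrix.cons_val', _root_.Matrix.cons_val_fin_one, Fin.isValue, _root_.Matrix.cons_val_zero, _root_.Matrix.cons_val_one, _root_.Matrix.cons_val, _root_.Matrix.cons_val_succ, _root_.IsEmpty.forall_iff, _root_.Matrix.one_apply_eq, _root_.Fin.succ_zero_eq_one, _root_.ne_eq, _root_.zero_ne_one, _root_.not_false_eq_true, _root_.Matrix.one_apply_ne, _root_.Fin.succ_one_eq_two, Fin.reduceEq,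 _root_.Fin.succ_ne_zero, _root_.MulZeroClass.zero_mul, _root_.and_true, _root_.true_and]) <;> (repeat' with_reducible apply And.intro)
  · linear_combination w * h2 + (w - 1) * hw
  · linear_combination w ^ 2 * h2 + (w ^ 2 - w + 1) * hw
  · linear_combination w ^ 2 * h2 + (w ^ 2 - w + 1) * hw
  · linear_combination (w + 1) * h2 + (1 + (4 + w ^ 2) * (w - 1)) * hw

theorem tv_center {a b : F} (h : tv a b ∈ Subgroup.center (Matrix.SpecialLinearGroup (Fin 3) F)) : a = 0 ∧ b = 0 := by
  let l : Matrix.SpecialLinearGroup (Fin 3) F := ⟨!![1, 0, 0; 0, 1, 0; 1, 0, 1], by simp [Matrix.det_fin_three]⟩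
  have h1 := Subgroup.mem_center_iff.1 h l
  have h2 : (!![1, 0, 0; 0, 1, 0; 1, 0, 1] * !![1, 0, a; 0, 1, b; 0, 0, 1] : Matrix (Fin 3) (Fin 3) F) =
      !![1, 0, a; 0, 1, b; 0, 0, 1] * !![1, 0, 0; 0, 1, 0; 1, 0, 1] := congrArg Subtype.val h1
  have h3 := congrFun (congrFun h2 0) 0
  have h4 := congrFun (congrFun h2 1) 0
  simp [Matrix.mul_apply, Fin.sum_univ_three] at h3 h4
  exact ⟨h3, h4.symm⟩

theorem conj_tv (w : F) (h2 : (2 : F) = 0) (a b : F) (m : ℕ) :
    ∃ c d : F, xm w h2 ^ m * tv a b * (xm w h2 ^ m)⁻¹ = tv c d := by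
  induction m with
  | zero => exact ⟨a, b, by simp⟩
  | succ m ih =>
    obtain ⟨c, d, hcd⟩ := ih
    refine ⟨d, c + w * d, ?_⟩
    rw [pow_succ', mul_inv_rev]
    calc xm w h2 * xm w h2 ^ m * tv a b * ((xm w h2 ^ m)⁻¹ * (xm w h2)⁻¹) =
        xm w h2 * (xm w h2 ^ m * tv a b * (xm w h2 ^ m)⁻¹) * (xm w h2)⁻¹ := by group
      _ = _ := by rw [hcd, xm_tv, mul_inv_cancel_right]

variable [Fintype F]

theorem two_eq (hF : Fintype.card F = 4) : (2 : F) = 0 := by
  have h := FiniteField.cast_card_eq_zero F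
  rw [hF] at h
  push_cast at h
  have h4 : (2 : F) ^ 2 = 0 := by linear_combination h
  exact pow_eq_zero_iff (two_ne_zero) |>.1 h4

theorem exists_w (hF : Fintype.card F = 4) : ∃ w : F, w ^ 2 + w + 1 = 0 := by
  classical
  obtain ⟨w, hw⟩ : ∃ w : F, w ∉ ({0, 1} : Finset F) := by
    by_contra hc
    push Not at hc
    have h1 : (Finset.univ : Finset F) ⊆ {0, 1} := fun x _ => hc x
    have h2 := Finset.card_le_card h1
    rw [Finset.card_univ, hF] at h2
    have h3 := Finset.card_le_two (a := (0 : F)) (b := 1)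
    omega
  rw [Finset.mem_insert, Finset.mem_singleton, not_or] at hw
  refine ⟨w, ?_⟩
  have h1 : w ^ 3 = 1 := by
    have := FiniteField.pow_card_sub_one_eq_one w hw.1
    rwa [hF] at this
  have h2 : (w - 1) * (w ^ 2 + w + 1) = 0 := by linear_combination h1
  exact (mul_eq_zero.1 h2).resolve_left (sub_ne_zero.2 hw.2)

end data

/-- the facts about `PSL₃(4)` -/
theorem l34 {S : Type v} [Group S] (hS : Cfsg.Agent.H912.Bd.IsL 3 4 S) : Nat.card S = 20160 ∧
    Nat.card (MulAut S) = 241920 ∧ ∃ x a : S, x ^ 5 = 1 ∧ a * a = 1 ∧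
      (∀ i j : ℕ, (x ^ i * a * (x ^ i)⁻¹) * (x ^ j * a * (x ^ j)⁻¹) = (x ^ j * a * (x ^ j)⁻¹) * (x ^ i * a * (x ^ i)⁻¹)) ∧
      x * a * x⁻¹ ≠ a := by
  obtain ⟨F, _, _, hF, ⟨e⟩⟩ := hS
  have h1 := Cfsg.Agent.S0243.result hF 3 (by norm_num)
  have hc : Nat.card (Matrix.ProjectiveSpecialLinearGroup (Fin 3) F) = 20160 := by
    rw [Fin.prod_univ_three] at h1
    have h3 : 3 * (3 * Nat.card (Matrix.ProjectiveSpecialLinearGroup (Fin 3) F)) = 181440 := h1
    omega
  have h2 := two_eq hF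
  obtain ⟨w, hw⟩ := exists_w hF
  refine ⟨(Nat.card_congr e.toEquiv).trans hc, ?_, ?_⟩
  · have : Fact (Nat.Prime 2) := ⟨Nat.prime_two⟩
    rw [Nat.card_congr (MulAut.congr e).toEquiv, S0813.result 2 2 (by norm_num) (by rw [hF]; rfl) 3 (by norm_num)
      (fun h => by omega), Cfsg.Agent.H333.QS6.Data.card_pgl (by norm_num), hc, hF]
    rfl
  · let π : Matrix.SpecialLinearGroup (Fin 3) F →* Matrix.ProjectiveSpecialLinearGroup (Fin 3) F := QuotientGroup.mk' _
    let f : Matrix.SpecialLinearGroup (Fin 3) F →* S := e.symm.toMonoidHom.comp π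
    have hconj : ∀ m : ℕ, f (xm w h2) ^ m * f (tv 1 0) * (f (xm w h2) ^ m)⁻¹ =
        f (xm w h2 ^ m * tv 1 0 * (xm w h2 ^ m)⁻¹) := by
      intro m
      rw [map_mul, map_mul, map_inv, map_pow]
    refine ⟨f (xm w h2), f (tv 1 0), ?_, ?_, ?_, ?_⟩
    · rw [← map_pow, xm_five w h2 hw, map_one]
    · rw [← map_mul, tv_mul]
      have : tv ((1 : F) + 1) (0 + 0) = 1 := by
        apply Subtype.ext
        have h3 : (1 : F) + 1 = 0 := by linear_combination h2
        rw [h3, add_zero]
        change !![1, 0, 0; 0, 1, 0; 0, 0, 1] = (1 : Matrix (Fin 3) (Fin 3) F)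
        ext i j
        fin_cases i <;> fin_cases j <;> rfl
      rw [this, map_one]
    · intro i j
      obtain ⟨c, d, hcd⟩ := conj_tv w h2 1 0 i
      obtain ⟨c', d', hcd'⟩ := conj_tv w h2 1 0 j
      rw [hconj, hconj, hcd, hcd', ← map_mul, ← map_mul, tv_mul, tv_mul, add_comm c, add_comm d]
    · intro h
      have h3 := hconj 1
      rw [pow_one, h, pow_one, xm_tv, mul_inv_cancel_right] at h3
      have h4 : π (tv 1 0) = π (tv 0 (1 + w * 0)) := e.symm.injective h3
      have h5 := QuotientGroup.eq.1 h4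
      have h6 : (tv (1 : F) 0)⁻¹ = tv (-1) 0 := by
        rw [inv_eq_iff_mul_eq_one, tv_mul]
        apply Subtype.ext
        change !![1, 0, 1 + -1; 0, 1, 0 + 0; 0, 0, 1] = (1 : Matrix (Fin 3) (Fin 3) F)
        ext i j
        (revert i j; simp only [_root_.Fin.forall_fin_succ, _root_.add_neg_cancel, _root_.add_zero, _root_.Matrix.of_apply, _root_.Matrix.cons_val', _root_.Matrix.cons_val_fin_one, Fin.isValue, _root_.Matrix.cons_val_zero, _root_.Matrix.cons_val_succ, _root_.IsEmpty.forall_iff, _root_.and_true, _root_.Matrix.one_apply_eq, Nat.reduceAdd, _root_.Fin.succ_zero_eq_one, _root_.ne_eq, _root_.zero_ne_one, _root_.not_false_eq_true, _root_.Matrix.one_apply_ne, _root_.Fin.succ_one_eq_two, Fin.reduceEq, _root_.and_self, _root_.Fin.succ_ne_zero, _root_.true_and])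
      rw [h6, tv_mul] at h5
      have h7 := (tv_center h5).1
      apply one_ne_zero (α := F)
      linear_combination -h7

theorem prod_rel {R : Type*} [Ring R] {t0 t1 t2 t3 : R} (q01 : t0 * t1 = -(t1 * t0)) (q02 : t0 * t2 = -(t2 * t0))
    (q03 : t0 * t3 = -(t3 * t0)) (q21 : t2 * t1 = -(t1 * t2)) (q31 : t3 * t1 = -(t1 * t3)) (q32 : t3 * t2 = -(t2 * t3)) :
    (t1 * t2) * (t1 * t3) = -((t1 * t3) * (t1 * t2)) ∧ t0 * (t1 * t2) = t1 * t2 * t0 ∧
      t0 * (t1 * t3) = t1 * t3 * t0 := by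
  refine ⟨?_, ?_, ?_⟩
  · have e1 : t1 * t2 * (t1 * t3) = -(t1 * t1 * (t2 * t3)) := by
      calc t1 * t2 * (t1 * t3) = t1 * (t2 * t1) * t3 := by simp only [mul_assoc]
        _ = _ := by rw [q21]; simp only [mul_neg, neg_mul, mul_assoc]
    have e2 : t1 * t3 * (t1 * t2) = t1 * t1 * (t2 * t3) := by
      calc t1 * t3 * (t1 * t2) = t1 * (t3 * t1) * t2 := by simp only [mul_assoc]
        _ = -(t1 * t1 * (t3 * t2)) := by rw [q31]; simp only [mul_neg, neg_mul, mul_assoc]
        _ = _ := by rw [q32]; simp only [mul_neg, neg_neg]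
    rw [e1, e2]
  · calc t0 * (t1 * t2) = (t0 * t1) * t2 := (mul_assoc _ _ _).symm
      _ = -(t1 * (t0 * t2)) := by rw [q01]; simp only [neg_mul, mul_assoc]
      _ = t1 * t2 * t0 := by rw [q02]; simp only [mul_neg, neg_neg, mul_assoc]
  · calc t0 * (t1 * t3) = (t0 * t1) * t3 := (mul_assoc _ _ _).symm
      _ = -(t1 * (t0 * t3)) := by rw [q01]; simp only [neg_mul, mul_assoc]
      _ = t1 * t3 * t0 := by rw [q03]; simp only [mul_neg, neg_neg, mul_assoc]

/-! ### base change of scalars -/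

section bar

variable {K : Type u} {V : Type v} [Field K] [AddCommGroup V] [Module K V] [FiniteDimensional K V]

theorem bar_smul {G : Type w} [Group G] (ρ : Representation K G V) {g : G} {ζ : K} (h : ρ g = ζ • 1) :
    bar ρ g = algebraMap K (AlgebraicClosure K) ζ • 1 := by
  rw [bar_apply, h, map_smul]
  have h1 : LinearMap.toMatrix (Module.finBasis K V) (Module.finBasis K V) (1 : V →ₗ[K] V) = 1 := LinearMap.toMatrix_one _
  rw [h1, Matrix.map_smul' _ _ _ (fun a b => map_mul _ a b), Matrix.map_one _ (map_zero _) (map_one _), map_smul,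
    Matrix.toLin'_one]
  rfl

end bar

/-! ### the row -/

section row

variable {p : ℕ} [Fact p.Prime] {K : Type w} [Field K] {V : Type u} [AddCommGroup V] [Module (ZMod p) V]
    [Module K V] [Finite V] {G L : Subgroup (V ≃ₗ[ZMod p] V)} {h : ℕ}

theorem kill_six_L34 (H : QS p K V G L h) (hn : finrank K V = 6)
    (hL : Cfsg.Agent.H912.Bd.IsL 3 4 (L ⧸ Subgroup.center L)) : False := by
  obtain ⟨hS, hA, x', a', hx5, ha2, hcom, hxa⟩ := l34 hL
  have h5p : Nat.Prime 5 := by norm_num
  have h5 : Fact (Nat.Prime 5) := ⟨h5p⟩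
  have hs : ¬ 5 ^ 2 ∣ Nat.card (L ⧸ Subgroup.center L) := by rw [hS]; norm_num
  have hd : 5 ∣ Nat.card (L ⧸ Subgroup.center L) := by rw [hS]; norm_num
  have hfin := finiteK H
  have hfd := fd H
  have hq : 11 ≤ Nat.card K := le_p H hS (by
    intro q hq hqp
    interval_cases q <;> first | (exfalso; revert hqp; decide) | decide)
  have h2 : (2 : K) ≠ 0 := by
    have := ne_zero_of_dvd H Nat.prime_two (by rw [hS]; norm_num)
    exact_mod_cast this
  have hx1 : x' ≠ 1 := by
    rintro rfl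
    exact hxa (by rw [one_mul, inv_one, mul_one])
  obtain ⟨x, hx, rfl, hxc⟩ := lift h5p H hs hx5 hx1
  obtain ⟨a, rfl⟩ := QuotientGroup.mk_surjective a'
  -- the conjugates of `a`
  let A : ZMod 5 → L := fun i => x ^ i.val * a * (x ^ i.val)⁻¹
  have hAm : ∀ m : ℕ, x ^ m * a * (x ^ m)⁻¹ = A (m : ZMod 5) := by
    intro m
    change _ = x ^ ((m : ZMod 5)).val * a * (x ^ ((m : ZMod 5)).val)⁻¹
    rw [ZMod.val_natCast, ← pow_eq_pow_mod m hx]
  have hxA : ∀ (m : ℕ) (i : ZMod 5), x ^ m * A i * (x ^ m)⁻¹ = A (i + m) := by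
    intro m i
    have h3 : x ^ m * A i * (x ^ m)⁻¹ = x ^ (i.val + m) * a * (x ^ (i.val + m))⁻¹ := by
      change x ^ m * (x ^ i.val * a * (x ^ i.val)⁻¹) * (x ^ m)⁻¹ = _
      rw [add_comm, pow_add]
      group
    rw [h3, hAm]
    push_cast
    rw [ZMod.natCast_zmod_val]
  have hcen : ∀ i j, A i * A j * (A j * A i)⁻¹ ∈ Subgroup.center L := by
    intro i j
    rw [← QuotientGroup.eq_one_iff]
    have h3 := hcom i.val j.val
    change (QuotientGroup.mk x ^ i.val * QuotientGroup.mk a * (QuotientGroup.mk x ^ i.val)⁻¹) *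
      (QuotientGroup.mk x ^ j.val * QuotientGroup.mk a * (QuotientGroup.mk x ^ j.val)⁻¹) *
      ((QuotientGroup.mk x ^ j.val * QuotientGroup.mk a * (QuotientGroup.mk x ^ j.val)⁻¹) *
      (QuotientGroup.mk x ^ i.val * QuotientGroup.mk a * (QuotientGroup.mk x ^ i.val)⁻¹))⁻¹ = (1 : L ⧸ Subgroup.center L)
    rw [h3, mul_inv_cancel]
  have haa : a * a ∈ Subgroup.center L := by
    rw [← QuotientGroup.eq_one_iff]
    exact ha2
  have hAA : ∀ i, A i * A i = a * a := by
    intro i
    have h3 := Subgroup.mem_center_iff.1 haa (x ^ i.val)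
    change (x ^ i.val * a * (x ^ i.val)⁻¹) * (x ^ i.val * a * (x ^ i.val)⁻¹) = a * a
    have h4 : (x ^ i.val * a * (x ^ i.val)⁻¹) * (x ^ i.val * a * (x ^ i.val)⁻¹) =
      x ^ i.val * (a * a) * (x ^ i.val)⁻¹ := by group
    rw [h4, h3, mul_inv_cancel_right]
  set ρ := rep H with hρ
  have hρi : Function.Injective ρ := rep_injective H
  let P : ZMod 5 → ZMod 5 → Prop := fun i j => A i * A j = A j * A i
  let Q : ZMod 5 → ZMod 5 → Prop := fun i j => ∃ c : L, A i * A j = c * (A j * A i) ∧ ρ c = (-1 : K) • 1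
  have hdich : ∀ i j, P i j ∨ Q i j := by
    intro i j
    have hc := hcen i j
    set c := A i * A j * (A j * A i)⁻¹ with hcdef
    have h3 : A i * A j = c * (A j * A i) := by rw [hcdef, inv_mul_cancel_right]
    have hcc : c * c = 1 := by
      have h4 : A i * A j * (A i)⁻¹ = c * A j := by rw [h3]; group
      have h5 : A i * (A j * A j) * (A i)⁻¹ = (c * A j) * (c * A j) := by
        rw [← h4]; group
      rw [hAA, Subgroup.mem_center_iff.1 haa (A i), mul_inv_cancel_right] at h5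
      have h6 : (c * A j) * (c * A j) = (c * c) * (A j * A j) := by
        have h7 : A j * c = c * A j := Subgroup.mem_center_iff.1 hc (A j)
        calc (c * A j) * (c * A j) = c * (A j * c) * A j := by group
          _ = c * (c * A j) * A j := by rw [h7]
          _ = _ := by group
      rw [h6, hAA] at h5
      have h7 : (c * c) * (a * a) = 1 * (a * a) := by rw [← h5, one_mul]
      exact mul_right_cancel h7
    obtain ⟨ζ, hζ0, hζ⟩ := scalar_of_center H hc
    have hζ' : ρ c = ζ • 1 := LinearMap.ext hζ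
    have hζ2 : ζ * ζ = 1 := by
      have h4 : ρ (c * c) = 1 := by rw [hcc, map_one]
      rw [map_mul, hζ', smul_mul_smul_comm, mul_one] at h4
      obtain ⟨v, hv⟩ := Cfsg.Agent.H333.QS6.Rep.exists_ne_zero H
      have h6 : (ζ * ζ) • v = (1 : K) • v := by
        rw [one_smul]
        exact congrArg (fun T : Module.End K V => T v) h4
      exact smul_left_injective K hv h6
    rcases mul_self_eq_one_iff.1 hζ2 with h4 | h4
    · left
      rw [h4, one_smul] at hζ'
      have h6 : c = 1 := hρi (by rw [hζ', map_one])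
      change A i * A j = A j * A i
      rw [h3, h6, one_mul]
    · right
      exact ⟨c, h3, by rw [hζ', h4]⟩
  have hPs : ∀ (m : ℕ) (i j : ZMod 5), P i j → P (i + m) (j + m) := by
    intro m i j hij
    change A (i + m) * A (j + m) = A (j + m) * A (i + m)
    rw [← hxA, ← hxA]
    have h3 : x ^ m * A i * (x ^ m)⁻¹ * (x ^ m * A j * (x ^ m)⁻¹) = x ^ m * (A i * A j) * (x ^ m)⁻¹ := by group
    have h4 : x ^ m * A j * (x ^ m)⁻¹ * (x ^ m * A i * (x ^ m)⁻¹) = x ^ m * (A j * A i) * (x ^ m)⁻¹ := by group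
    rw [h3, h4, show A i * A j = A j * A i from hij]
  have hQs : ∀ (m : ℕ) (i j : ZMod 5), Q i j → Q (i + m) (j + m) := by
    rintro m i j ⟨c, hc, hc'⟩
    refine ⟨x ^ m * c * (x ^ m)⁻¹, ?_, ?_⟩
    · rw [← hxA, ← hxA]
      have h3 : x ^ m * A i * (x ^ m)⁻¹ * (x ^ m * A j * (x ^ m)⁻¹) = x ^ m * (A i * A j) * (x ^ m)⁻¹ := by group
      rw [h3, hc]
      group
    · rw [map_mul, map_mul, hc', mul_smul_comm, smul_mul_assoc, mul_one, ← map_mul, mul_inv_cancel, map_one]
  have hQsymm : ∀ i j, Q i j → Q j i := by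
    rintro i j ⟨c, hc, hc'⟩
    refine ⟨c, ?_, hc'⟩
    have h3 : c * c = 1 := hρi (by
      rw [map_mul, hc', smul_mul_smul_comm, mul_one, map_one]
      norm_num)
    have h4 : c * (A i * A j) = A j * A i := by rw [hc, ← mul_assoc, h3, one_mul]
    exact h4.symm
  by_cases hall : ∀ i j, P i j
  · -- commuting involutions
    have hC : ∀ i j, Commute (A i) (A j) := hall
    have hx1A : ∀ i, x * A i = A (i + 1) * x := by
      intro i
      have h3 := hxA 1 i
      rw [pow_one, Nat.cast_one] at h3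
      rw [← h3, inv_mul_cancel_right]
    let N : ZMod 5 → Module.End K V := fun i => ρ (A i * (A (i + 1))⁻¹)
    have hNe : ∀ i, N i = ρ (A i * (A (i + 1))⁻¹) := fun i => rfl
    obtain ⟨⟨v, hv0, hv⟩, hev⟩ := shift (X := ρ x) (N := N) h2 hn (by rw [← map_pow, hx, map_one])
      (by
        intro i
        rw [hNe, hNe, ← map_mul, ← map_mul]
        congr 1
        have h3 : x * (A (i + 1))⁻¹ = (A (i + 1 + 1))⁻¹ * x := by
          rw [eq_inv_mul_iff_mul_eq, ← mul_assoc, ← hx1A, mul_inv_cancel_right]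
        calc x * (A i * (A (i + 1))⁻¹) = (x * A i) * (A (i + 1))⁻¹ := (mul_assoc _ _ _).symm
          _ = A (i + 1) * (x * (A (i + 1))⁻¹) := by rw [hx1A i]; exact mul_assoc _ _ _
          _ = A (i + 1) * (A (i + 1 + 1))⁻¹ * x := by rw [h3]; exact (mul_assoc _ _ _).symm)
      (by
        intro i
        rw [hNe, ← map_mul]
        have h3 : A i * (A (i + 1))⁻¹ * (A i * (A (i + 1))⁻¹) = 1 := by
          have h4 : (A (i + 1))⁻¹ * A i = A i * (A (i + 1))⁻¹ := ((hC (i + 1) i).inv_left).eq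
          calc A i * (A (i + 1))⁻¹ * (A i * (A (i + 1))⁻¹) = A i * ((A (i + 1))⁻¹ * A i) * (A (i + 1))⁻¹ := by group
            _ = (A i * A i) * (A (i + 1) * A (i + 1))⁻¹ := by rw [h4]; group
            _ = 1 := by rw [hAA, hAA, mul_inv_cancel]
        rw [h3, map_one])
      (by
        intro i j
        rw [hNe, hNe, ← map_mul, ← map_mul]
        congr 1
        exact (((hC _ _).mul_left (hC _ _).inv_left).mul_right (((hC _ _).inv_right).mul_left
          (hC _ _).inv_left.inv_right)).eq)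
      (by
        rw [hNe, hNe, hNe, hNe, hNe, ← map_mul, ← map_mul, ← map_mul, ← map_mul]
        have e1 : (0 : ZMod 5) + 1 = 1 := rfl
        have e2 : (1 : ZMod 5) + 1 = 2 := rfl
        have e3 : (2 : ZMod 5) + 1 = 3 := rfl
        have e4 : (3 : ZMod 5) + 1 = 4 := rfl
        have e5 : (4 : ZMod 5) + 1 = 0 := rfl
        rw [e1, e2, e3, e4, e5]
        have h3 : A 0 * (A 1)⁻¹ * (A 1 * (A 2)⁻¹) * (A 2 * (A 3)⁻¹) * (A 3 * (A 4)⁻¹) * (A 4 * (A 0)⁻¹) = 1 := by group
        rw [h3, map_one])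
      (by
        intro h0
        rw [hNe] at h0
        have h3 : A 0 * (A (0 + 1))⁻¹ = 1 := hρi (by rw [h0, map_one])
        have h4 : A 0 = A (0 + 1) := mul_inv_eq_one.1 h3
        have h5 := hx1A 0
        rw [← h4] at h5
        have h6 : A 0 = a := by
          change x ^ 0 * a * (x ^ 0)⁻¹ = a
          rw [pow_zero, one_mul, inv_one, mul_one]
        rw [h6] at h5
        apply hxa
        have h7 := congrArg (QuotientGroup.mk : L → L ⧸ Subgroup.center L) h5
        rw [QuotientGroup.mk_mul, QuotientGroup.mk_mul] at h7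
        rw [h7, mul_inv_cancel_right])
    have hb := bound H h5p hs (by rw [hA, hS]; norm_num) hx hxc (d := 2) (k := 3) (N := 2016) hev (by
      change 0 < finrank K (Module.End.eigenspace (rep H x) 1)
      rw [Module.finrank_pos_iff_exists_ne_zero]
      refine ⟨⟨v, ?_⟩, fun h0 => hv0 (congrArg Subtype.val h0)⟩
      rw [Module.End.mem_eigenspace_iff, one_smul]
      exact hv) (by rw [hn]) (by
      obtain ⟨h1, h2⟩ := card_order_spec hs hd
      rw [hS] at h1
      set N := Nat.card {R : Subgroup (L ⧸ Subgroup.center L) // Nat.card R = 5}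
      obtain ⟨m, hm⟩ := h1
      norm_num at hm
      by_contra hlt
      have hm2 : m < 2 := by nlinarith only [hm, hlt]
      interval_cases m <;> omega)
    rw [hn] at hb
    have h6 := arith2 (by omega) hb
    have h7 : 11 ^ 4 ≤ Nat.card K ^ 4 := Nat.pow_le_pow_left hq 4
    omega
  · exfalso
    let T : ZMod 5 → Module.End (AlgebraicClosure K) (Fin (finrank K V) → AlgebraicClosure K) := fun i => bar ρ (A i)
    have h2' : (2 : AlgebraicClosure K) ≠ 0 := by
      have := (map_ne_zero (algebraMap K (AlgebraicClosure K))).2 h2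
      rwa [map_ofNat] at this
    have hT6 : finrank (AlgebraicClosure K) (Fin (finrank K V) → AlgebraicClosure K) = 6 := by
      rw [finrank_fin_fun, hn]
    have hTinj : ∀ g : L, Function.Injective (bar ρ g) := by
      intro g u v huv
      have h3 : ∀ z, bar ρ g⁻¹ (bar ρ g z) = z := by
        intro z
        have h4 : bar ρ g⁻¹ * bar ρ g = 1 := by rw [← map_mul, inv_mul_cancel, map_one]
        exact congrArg (fun T : Module.End _ _ => T z) h4
      rw [← h3 u, ← h3 v, huv]
    have hTP : ∀ i j, P i j → T i * T j = T j * T i := by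
      intro i j hij
      change bar ρ (A i) * bar ρ (A j) = bar ρ (A j) * bar ρ (A i)
      rw [← map_mul, ← map_mul, show A i * A j = A j * A i from hij]
    have hTQ : ∀ i j, Q i j → T i * T j = -(T j * T i) := by
      rintro i j ⟨c, hc, hc'⟩
      change bar ρ (A i) * bar ρ (A j) = -(bar ρ (A j) * bar ρ (A i))
      rw [← map_mul, ← map_mul, hc, map_mul, bar_smul ρ hc', map_neg, map_one]
      refine LinearMap.ext fun z => ?_
      rw [Module.End.mul_apply, LinearMap.smul_apply, Module.End.one_apply, neg_one_smul, LinearMap.neg_apply]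
    obtain ⟨α, hα0, hα⟩ := scalar_of_center H haa
    have hα' : ρ (a * a) = α • 1 := LinearMap.ext hα
    have hTT : ∀ i, T i * T i = algebraMap K (AlgebraicClosure K) α • 1 := by
      intro i
      change bar ρ (A i) * bar ρ (A i) = _
      rw [← map_mul, hAA, bar_smul ρ hα']
    have hα1 : algebraMap K (AlgebraicClosure K) α ≠ 0 := (map_ne_zero _).2 hα0
    have hPsymm : ∀ i j, P i j → P j i := fun i j hij => Eq.symm hij
    rcases hdich 0 1 with h01 | h01 <;> rcases hdich 0 2 with h02 | h02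
    · apply hall
      have h0 : ∀ t : ZMod 5, P 0 t := by
        intro t
        have h03 : P 0 3 := hPs 3 2 0 (hPsymm _ _ h02)
        have h04 : P 0 4 := hPs 4 1 0 (hPsymm _ _ h01)
        have key : ∀ t : Fin 5, P 0 (t : ZMod 5) := by
          intro t
          fin_cases t
          · exact rfl
          · exact h01
          · exact h02
          · exact h03
          · exact h04
        exact key t
      intro i j
      have h3 := hPs i.val 0 (j - i) (h0 _)
      rwa [ZMod.natCast_zmod_val, zero_add, sub_add_cancel] at h3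
    · have h04 : P 0 4 := hPs 4 1 0 (hPsymm _ _ h01)
      have h03 : Q 0 3 := hQs 3 2 0 (hQsymm _ _ h02)
      have h14 : Q 1 4 := hQs 1 0 3 h03
      exact no_pairs h2' hT6 hα1 (hTT 0) (hTinj _) (hTinj _) (hTinj _) (hTQ 0 2 h02) (hTQ 1 4 h14) (hTP 0 1 h01)
        (hTP 0 4 h04)
    · have h03 : P 0 3 := hPs 3 2 0 (hPsymm _ _ h02)
      have h32 : Q 3 2 := hQs 2 1 0 (hQsymm _ _ h01)
      exact no_pairs h2' hT6 hα1 (hTT 0) (hTinj _) (hTinj _) (hTinj _) (hTQ 0 1 h01) (hTQ 3 2 h32) (hTP 0 3 h03)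
        (hTP 0 2 h02)
    · have h03 : Q 0 3 := hQs 3 2 0 (hQsymm _ _ h02)
      have h13 : Q 1 3 := hQs 1 0 2 h02
      have h12 : Q 1 2 := hQs 1 0 1 h01
      have h23 : Q 2 3 := hQs 2 0 1 h01
      have q01 := hTQ 0 1 h01
      have q02 := hTQ 0 2 h02
      have q03 := hTQ 0 3 h03
      have q21 := hTQ 2 1 (hQsymm _ _ h12)
      have q31 := hTQ 3 1 (hQsymm _ _ h13)
      have q32 := hTQ 3 2 (hQsymm _ _ h23)
      obtain ⟨r1, r2, r3⟩ := prod_rel q01 q02 q03 q21 q31 q32
      refine no_pairs h2' hT6 hα1 (hTT 0) (hTinj (A 1)) (C := T 1 * T 2) (D := T 1 * T 3) ?_ ?_ q01 r1 r2 r3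
      · exact (hTinj (A 1)).comp (hTinj (A 2))
      · exact (hTinj (A 1)).comp (hTinj (A 3))

end row

end Cfsg.Agent.H392.HT
end

private theorem dce_d7cab0ea6e68 : _root_.True := by
  try have : _root_.True := by simp only [_root_.Cfsg.Agent.H392.HT.xm.congr_simp]
  try have : _root_.True := by simp only [_root_.Cfsg.Agent.H333.QS6.Rep.rep.congr_simp]
  exact _root_.True.intro
end

-- part: H933/HT/U33
section
prune_inst 0x152005400c4002000000000250001c06ee000100000b000018000f4006865e2209002620f4a00804020280040030004001000010420000002a000400411900a080aa52023340a00004001f003884000000000000000000000000000000041000000000002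
set_option linter.all false
open scoped Cfsg.Agent.FastGrp

-- part: H933/HT/Sieve
section
/-!
# S3540, `n = 6`: numerical sieves for `U₃(3)` and `U₄(3)`
-/

set_option autoImplicit false

namespace Cfsg.Agent.H933.HT

open Cfsg.Agent.H337.HT

/-- the divisor version of `Cand.gcd_le` -/
theorem gcd_le_of {R o A n q : ℕ} (hR : 0 < R) (hRA : R ∣ A) (hc : Cand R o A n q) (hq : 2 ≤ q) (hA : 0 < A) :
    q ^ n ≤ 2 * (Nat.gcd ((q - 1) * (A / R)) (q ^ n - 1)) ^ 2 := by
  obtain ⟨m, h, hRh, h2, hm, -, hd, hle⟩ := hc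
  refine (Cand.le_two h2 hle).trans ?_
  obtain ⟨k, rfl⟩ := hRh
  obtain ⟨a, rfl⟩ := hRA
  have h3 : m ∣ (q - 1) * a := by
    have h4 : m * (R * k) ∣ (q - 1) * (R * a) := hd
    have h5 : R * (m * k) ∣ R * ((q - 1) * a) := by
      have e1 : R * (m * k) = m * (R * k) := by ring
      have e2 : R * ((q - 1) * a) = (q - 1) * (R * a) := by ring
      rw [e1, e2]; exact h4
    exact (Dvd.intro k rfl).trans (Nat.dvd_of_mul_dvd_mul_left hR h5)
  have ha : 0 < a := Nat.pos_of_mul_pos_left hA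
  rw [Nat.mul_div_cancel_left a hR]
  have h1 : m ∣ Nat.gcd ((q - 1) * a) (q ^ n - 1) := Nat.dvd_gcd h3 hm
  have h6 : 0 < Nat.gcd ((q - 1) * a) (q ^ n - 1) :=
    Nat.gcd_pos_of_pos_left _ (Nat.mul_pos (by omega) ha)
  exact Nat.mul_le_mul_left 2 (Nat.pow_le_pow_left (Nat.le_of_dvd h6 h1) 2)

/-- the test at `q` -/
def tst (A n q : ℕ) : Bool := Nat.blt (2 * (Nat.gcd ((q - 1) * A) (q ^ n - 1)) ^ 2) (q ^ n)

/-- test of all `q = a + b j`, `j < k`, outside `l` -/
def loopL (A n b : ℕ) (l : List ℕ) : ℕ → ℕ → Bool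
  | 0, _ => true
  | k + 1, q => bif tst A n q || l.contains q then loopL A n b l k (q + b) else false

theorem loopL_spec {A n b : ℕ} {l : List ℕ} : ∀ (k a : ℕ), loopL A n b l k a = true → ∀ j < k,
    tst A n (a + b * j) = true ∨ (a + b * j) ∈ l
  | 0, _, _, j, hj => absurd hj (Nat.not_lt_zero _)
  | k + 1, a, h, j, hj => by
    rw [loopL] at h
    cases h1 : (tst A n a || l.contains a) with
    | false => rw [h1, cond_false] at h; exact Bool.noConfusion h
    | true =>
      rw [h1, cond_true] at h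
      rcases j with _ | j
      · rw [Nat.mul_zero, Nat.add_zero]
        rw [Bool.or_eq_true, List.contains_iff_mem] at h1
        exact h1
      · have := loopL_spec k (a + b) h j (by omega)
        have e : a + b * (j + 1) = a + b + b * j := by ring
        rw [e]; exact this

theorem not_tst {A n q : ℕ} (h : q ^ n ≤ 2 * (Nat.gcd ((q - 1) * A) (q ^ n - 1)) ^ 2) : tst A n q ≠ true := by
  intro h1
  rw [tst, Nat.blt_eq] at h1
  omega

/-- `U₃(3)` in degree 6 -/
theorem u33_list {q : ℕ} (hq : 2 ≤ q) (hco : q.Coprime 6048) (hc : Cand 1 6048 12096 6 q) :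
    q = 5 ∨ q = 11 ∨ q = 17 ∨ q = 23 := by
  have hlt : q < 93 := by
    by_contra hcon
    have h1 := hc.pow_lt (by norm_num) hq (by norm_num)
    have h2 : 93 ^ 4 ≤ q ^ 4 := Nat.pow_le_pow_left (by omega) 4
    norm_num at h1 h2
    omega
  have h6 := hc.gcd_le hq (by norm_num)
  have h1 : loopL 12096 6 2 [3, 5, 7, 11, 17, 23] 45 3 = true := by decide
  have hodd : q % 2 = 1 := by
    by_contra hcon
    have h2 : 2 ∣ q := by omega
    have h3 : 2 ∣ Nat.gcd q 6048 := Nat.dvd_gcd h2 (by norm_num)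
    rw [hco] at h3
    omega
  have h2 := loopL_spec 45 3 h1 ((q - 3) / 2) (by omega)
  have h3 : 3 + 2 * ((q - 3) / 2) = q := by omega
  rw [h3] at h2
  rcases h2 with h2 | h2
  · exact absurd h2 (not_tst h6)
  · simp only [List.mem_cons, List.not_mem_nil, or_false] at h2
    rcases h2 with rfl | rfl | rfl | rfl | rfl | rfl
    · revert hco; decide
    · exact Or.inl rfl
    · revert hco; decide
    · exact Or.inr (Or.inl rfl)
    · exact Or.inr (Or.inr (Or.inl rfl))
    · exact Or.inr (Or.inr (Or.inr rfl))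

/-- `U₃(3)` in degree 6, `3 ∣ h` -/
theorem u33_list3 {q : ℕ} (hq : 2 ≤ q) (hco : q.Coprime 6048) (hc : Cand 3 6048 12096 6 q) :
    q = 5 ∨ q = 11 ∨ q = 23 := by
  rcases u33_list hq hco hc.mono with rfl | rfl | rfl | rfl
  · exact Or.inl rfl
  · exact Or.inr (Or.inl rfl)
  · exfalso
    have h1 := gcd_le_of (by norm_num) (by norm_num) hc hq (by norm_num)
    revert h1
    norm_num
  · exact Or.inr (Or.inr rfl)

end Cfsg.Agent.H933.HT
end

-- part: H933/HT/Tools
section
/-!
# S3540, quasisimple rows: small tools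

* `exists_scalar`: central elements of `L` are scalars; `card_center_dvd`: `|Z(L)| ∣ |K| - 1`;
* `card_pow`: `K`-subspaces;
* `three_space`: `x³ = 1`, `g x g⁻¹ = x z`, `z` commutes with `x` and `g`, `z³ = 1 ≠ z`, `dim_K V = 6`, `3 ∤ |K| - 1`:
  `|C_V(x)| = |K|²` and `C_V(z) = 0`;
* `exists_of_not_dvd` (`covL`): every vector is fixed by an element of order `r` of `L`;
* `double_count`.
-/

set_option autoImplicit false
set_option linter.unusedSectionVars false

universe u w

namespace Cfsg.Agent.H933.HT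

open Cfsg.Agent.H828.HT Cfsg.Agent.H337.HT

variable {p : ℕ} [Fact p.Prime] {K : Type w} [Field K] {V : Type u} [AddCommGroup V] [Module (ZMod p) V] [Finite V]
    [Module K V] {G L : Subgroup (V ≃ₗ[ZMod p] V)} {h : ℕ}

/-- central elements of `L` are scalars -/
theorem exists_scalar (H : QS p K V G L h) {z : L} (hz : z ∈ Subgroup.center L) :
    ∃ c : K, ∀ v, (z : V ≃ₗ[ZMod p] V) v = c • v := by
  refine H.endo ((z : V ≃ₗ[ZMod p] V) : V →ₗ[ZMod p] V) fun l hl v => ?_
  have h1 : (⟨l, hl⟩ : L) * z = z * ⟨l, hl⟩ := Subgroup.mem_center_iff.1 hz _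
  have h2 := congrArg (fun a : L => (a : V ≃ₗ[ZMod p] V) v) h1
  exact h2.symm

theorem card_center_dvd (H : QS p K V G L h) : Nat.card (Subgroup.center L) ∣ Nat.card K - 1 := by
  have hK := H.finiteK
  have h2 : Nat.card (Subgroup.center L) = Nat.card ((Subgroup.center L).map L.subtype) :=
    Nat.card_congr ((Subgroup.center L).equivMapOfInjective _ L.subtype_injective).toEquiv
  have h3 : (Subgroup.center L).map L.subtype ≤ (QS.sc (p := p) (K := K) (V := V)).range := by
    rintro _ ⟨g, hg, rfl⟩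
    obtain ⟨c, hc⟩ := exists_scalar H hg
    have hc0 : c ≠ 0 := by
      rintro rfl
      obtain ⟨v, hv⟩ := H.exists_ne
      apply hv
      have h4 := hc v
      rw [zero_smul] at h4
      exact (g : V ≃ₗ[ZMod p] V).map_eq_zero_iff.1 h4
    exact ⟨Units.mk0 c hc0, LinearEquiv.ext fun v => by rw [QS.sc_apply]; exact (hc v).symm⟩
  have h4 : Nat.card (QS.sc (p := p) (K := K) (V := V)).range ∣ Nat.card Kˣ := Subgroup.card_range_dvd _
  rw [h2, ← Nat.card_units]
  exact (Subgroup.card_dvd_of_le h3).trans h4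

/-- the cardinality of a `K`-subspace -/
theorem card_pow (X : Set V) (h0 : (0 : V) ∈ X) (ha : ∀ v ∈ X, ∀ w ∈ X, v + w ∈ X)
    (hs : ∀ (c : K), ∀ v ∈ X, c • v ∈ X) : ∃ d, Nat.card X = Nat.card K ^ d := by
  let W : Submodule K V :=
    { carrier := X
      zero_mem' := h0
      add_mem' := fun {a b} h1 h2 => ha a h1 b h2
      smul_mem' := fun c x hx => hs c x hx }
  have : Module.Finite K V := Module.Finite.of_finite
  exact ⟨Module.finrank K W, Module.natCard_eq_pow_finrank (K := K) (V := W)⟩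

/-- a fixed-point-free permutation of order `r` -/
theorem dvd_of_free {X : Type*} [Finite X] {r : ℕ} (hr : r.Prime) (f : X → X) (hf : f^[r] = id)
    (hfix : ∀ x, f x ≠ x) : r ∣ Nat.card X := by
  classical
  have := Fintype.ofFinite X
  have := Fact.mk hr
  let e : Equiv.Perm X :=
    { toFun := f
      invFun := f^[r - 1]
      left_inv := fun x => by
        rw [← Function.iterate_succ_apply, Nat.succ_eq_add_one, Nat.sub_add_cancel hr.one_lt.le, hf]; rfl
      right_inv := fun x => by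
        rw [← Function.iterate_succ_apply' f, Nat.succ_eq_add_one, Nat.sub_add_cancel hr.one_lt.le, hf]; rfl }
  have he : e ^ r ^ 1 = 1 := by
    ext x
    rw [pow_one, Equiv.Perm.coe_pow]
    change f^[r] x = x
    rw [hf]; rfl
  have h1 := Equiv.Perm.card_fixedPoints_modEq (f := f) (p := r) (n := 1) (by rw [pow_one]; exact hf)
  have h2 : Fintype.card (Function.fixedPoints f) = 0 := by
    rw [Fintype.card_eq_zero_iff]
    exact ⟨fun x => hfix x.1 x.2⟩
  rw [h2] at h1
  rw [Nat.card_eq_fintype_card]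
  exact (Nat.modEq_zero_iff_dvd.1 h1)

end Cfsg.Agent.H933.HT
end

-- part: H933/HT/Three
section
/-!
# S3540: fixed spaces of the elements of order three of an extraspecial group of order 27 in dimension 6
-/

set_option autoImplicit false
set_option linter.unusedSectionVars false

universe u w

namespace Cfsg.Agent.H933.HT

open Cfsg.Agent.H828.HT Cfsg.Agent.H337.HT

variable {p : ℕ} [Fact p.Prime] {K : Type w} [Field K] {V : Type u} [AddCommGroup V] [Module (ZMod p) V] [Finite V]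
    [Module K V]

section

variable {x g z : V ≃ₗ[ZMod p] V}

/-- `ker (1 + z + z²)` -/
def ww (z : V ≃ₗ[ZMod p] V) : AddSubgroup V where
  carrier := {v | v + z v + z (z v) = 0}
  zero_mem' := by simp
  add_mem' {a b} ha hb := by
    simp only [Set.mem_setOf_eq, map_add] at *
    have : a + b + (z a + z b) + (z (z a) + z (z b)) = (a + z a + z (z a)) + (b + z b + z (z b)) := by abel
    rw [this, ha, hb, add_zero]
  neg_mem' {a} ha := by
    simp only [Set.mem_setOf_eq, map_neg] at *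
    have : -a + -z a + -z (z a) = -(a + z a + z (z a)) := by abel
    rw [this, ha, neg_zero]

theorem mem_ww {v : V} : v ∈ ww z ↔ v + z v + z (z v) = 0 := Iff.rfl

/-- `ker (1 + z + z²) ∩ C_V(x)` -/
def wx (x z : V ≃ₗ[ZMod p] V) : AddSubgroup V := ww z ⊓ (fx x).toAddSubgroup

theorem mem_wx {v : V} : v ∈ wx x z ↔ v + z v + z (z v) = 0 ∧ x v = v := by
  rw [wx, AddSubgroup.mem_inf, mem_ww, Submodule.mem_toAddSubgroup, mem_fx]

/-- the sum `v + y v + y² v` -/
def nn (y : V ≃ₗ[ZMod p] V) : V →+ V where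
  toFun v := v + y v + y (y v)
  map_zero' := by simp
  map_add' a b := by simp only [map_add]; abel

theorem nn_apply (y : V ≃ₗ[ZMod p] V) (v : V) : nn y v = v + y v + y (y v) := rfl

theorem pow_three_apply (hx : x ^ 3 = 1) (v : V) : x (x (x v)) = v := by
  have : (x ^ 3) v = v := by rw [hx]; rfl
  exact this

theorem nn_fixed (hx : x ^ 3 = 1) (v : V) : x (nn x v) = nn x v := by
  rw [nn_apply, map_add, map_add, pow_three_apply hx]
  abel

theorem nn_of_fixed {v : V} (hv : x v = v) : nn x v = (3 : ℕ) • v := by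
  rw [nn_apply, hv, hv, succ_nsmul, two_nsmul]

/-- the whole situation -/
structure Cfg (x g z : V ≃ₗ[ZMod p] V) : Prop where
  x3 : x ^ 3 = 1
  z3 : z ^ 3 = 1
  xz : x * z = z * x
  gz : g * z = z * g
  gx : g * x = x * z * g

namespace Cfg

variable (C : Cfg x g z)
include C

theorem cxz (v : V) : x (z v) = z (x v) := LinearEquiv.congr_fun C.xz v
theorem cgz (v : V) : g (z v) = z (g v) := LinearEquiv.congr_fun C.gz v
theorem cgx (v : V) : g (x v) = x (z (g v)) := LinearEquiv.congr_fun C.gx v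
theorem tz (v : V) : z (z (z v)) = v := pow_three_apply C.z3 v

theorem g_mem {v : V} (hv : v ∈ ww z) : g v ∈ ww z := by
  rw [mem_ww] at *
  rw [← C.cgz, ← C.cgz, ← map_add, ← map_add, hv, map_zero]

/-- `x (g b) = z² (g b)` for `b` fixed by `x` -/
theorem xg {b : V} (hb : x b = b) : x (g b) = z (z (g b)) := by
  have h1 := C.cgx b
  rw [hb] at h1
  -- `g b = x (z (g b))`
  have h2 : z (z (g b)) = z (z (x (z (g b)))) := congrArg (fun v => z (z v)) h1
  rw [h2, C.cxz, C.tz]

theorem nn_g {b : V} (hb : b ∈ wx x z) : nn x (g b) = 0 := by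
  rw [mem_wx] at hb
  have h1 := C.xg hb.2
  have h3 : g b ∈ ww z := C.g_mem hb.1
  rw [mem_ww] at h3
  rw [nn_apply, h1, C.cxz, C.cxz, h1, C.tz]
  rw [← h3]; abel

theorem nn_gg {b : V} (hb : b ∈ wx x z) : nn x (g (g b)) = 0 := by
  rw [mem_wx] at hb
  have h1 := C.xg hb.2
  have h3 : g (g b) ∈ ww z := C.g_mem (C.g_mem hb.1)
  rw [mem_ww] at h3
  -- `x (g g b) = z (g g b)`
  have h4 : x (g (g b)) = z (g (g b)) := by
    have h5 := C.cgx (g b)
    rw [h1, C.cgz, C.cgz] at h5
    -- `z z (g g b) = x (z (g g b))`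
    rw [C.cxz] at h5
    have h6 := z.injective h5
    exact h6.symm
  rw [nn_apply, h4, C.cxz, h4, h3]

theorem w_nz {v : V} (hv : v ∈ ww z) {k : ℕ} (hk : k = 3) (h3 : ∀ v : V, (3 : ℕ) • v = 0 → v = 0) (hz : z v = v) :
    v = 0 := by
  apply h3
  rw [mem_ww, hz, hz] at hv
  rw [succ_nsmul, two_nsmul]
  exact hv

theorem inj (h3 : ∀ v : V, (3 : ℕ) • v = 0 → v = 0) {a b c : V} (ha : a ∈ wx x z) (hb : b ∈ wx x z)
    (hc : c ∈ wx x z) (h : a + g b + g (g c) = 0) : a = 0 ∧ b = 0 ∧ c = 0 := by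
  have h1 := congrArg (nn x) h
  rw [map_add, map_add, C.nn_g hb, C.nn_gg hc, map_zero, add_zero, add_zero, nn_of_fixed (mem_wx.1 ha).2] at h1
  have ha0 := h3 a h1
  rw [ha0, zero_add, ← map_add] at h
  have h2 : b + g c = 0 := g.map_eq_zero_iff.1 h
  have h4 := congrArg (nn x) h2
  rw [map_add, C.nn_g hc, map_zero, add_zero, nn_of_fixed (mem_wx.1 hb).2] at h4
  have hb0 := h3 b h4
  rw [hb0, zero_add] at h2
  exact ⟨ha0, hb0, g.map_eq_zero_iff.1 h2⟩

theorem x_mem {v : V} (hv : v ∈ ww z) : x v ∈ ww z := by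
  rw [mem_ww] at *
  rw [← C.cxz, ← C.cxz, ← map_add, ← map_add, hv, map_zero]

theorem z_mem {v : V} (hv : v ∈ ww z) : z v ∈ ww z := by
  rw [mem_ww] at *
  rw [← map_add, ← map_add, hv, map_zero]

theorem nn_mem_of {y : V ≃ₗ[ZMod p] V} (hy : ∀ v, v ∈ ww z → y v ∈ ww z) {v : V} (hv : v ∈ ww z) : nn y v ∈ ww z := by
  rw [nn_apply]
  exact (ww z).add_mem ((ww z).add_mem hv (hy _ hv)) (hy _ (hy _ hv))

/-- the sum of the three projections -/
theorem sum_nn {w : V} (hw : w ∈ ww z) : nn x w + nn (x * z) w + nn (x * z * z) w = (3 : ℕ) • w := by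
  rw [mem_ww] at hw
  have e1 : (x * z) w = x (z w) := rfl
  have e2 : (x * z) ((x * z) w) = x (x (z (z w))) := by
    change x (z (x (z w))) = _
    rw [C.cxz (z w)]
  have e3 : (x * z * z) w = x (z (z w)) := rfl
  have e4 : (x * z * z) ((x * z * z) w) = x (x (z w)) := by
    change x (z (z (x (z (z w))))) = _
    rw [C.cxz (z w), C.cxz w]
    have : z (z (z (z (x w)))) = z (x w) := C.tz _
    rw [this, C.cxz]
  rw [nn_apply, nn_apply, nn_apply, e2, e1, e4, e3]
  have e5 : x w + x (z w) + x (z (z w)) = 0 := by rw [← map_add, ← map_add, hw, map_zero]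
  have e6 : x (x w) + x (x (z w)) + x (x (z (z w))) = 0 := by
    rw [← map_add, ← map_add, ← map_add, ← map_add, hw, map_zero, map_zero]
  have e7 : w + x w + x (x w) + (w + x (z w) + x (x (z (z w)))) + (w + x (z (z w)) + x (x (z w))) =
    (w + w + w) + (x w + x (z w) + x (z (z w))) + (x (x w) + x (x (z w)) + x (x (z (z w)))) := by abel
  rw [e7, e5, e6, add_zero, add_zero, succ_nsmul, two_nsmul]

theorem y3 : (x * z) ^ 3 = 1 := by
  have : Commute x z := C.xz
  rw [this.mul_pow, C.x3, C.z3, one_mul]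

theorem y3' : (x * z * z) ^ 3 = 1 := by
  have h1 : Commute x z := C.xz
  have : Commute (x * z) z := h1.mul_left (Commute.refl z)
  rw [this.mul_pow, C.y3, C.z3, one_mul]

theorem exists_b {u : V} (hu : u ∈ ww z) (hy : (x * z) u = u) : ∃ b ∈ wx x z, g b = u := by
  refine ⟨g⁻¹ u, ?_, ?_⟩
  · have e0 : g (g⁻¹ u) = u := by
      change (g * g⁻¹) u = u
      rw [mul_inv_cancel]; rfl
    rw [mem_wx]
    constructor
    · apply g.injective
      rw [map_add, map_add, C.cgz, C.cgz, C.cgz, e0, map_zero]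
      exact hu
    · apply g.injective
      rw [C.cgx, e0]
      exact hy
  · change (g * g⁻¹) u = u
    rw [mul_inv_cancel]; rfl

theorem exists_c {u : V} (hu : u ∈ ww z) (hy : (x * z * z) u = u) : ∃ c ∈ wx x z, g (g c) = u := by
  have e0 : g (g⁻¹ u) = u := by
    change (g * g⁻¹) u = u
    rw [mul_inv_cancel]; rfl
  have h1 : g⁻¹ u ∈ ww z := by
    rw [mem_ww]
    apply g.injective
    rw [map_add, map_add, C.cgz, C.cgz, C.cgz, e0, map_zero]
    exact hu
  obtain ⟨c, hc, hc'⟩ := C.exists_b h1 (by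
    apply g.injective
    change g (x (z (g⁻¹ u))) = _
    rw [C.cgx, C.cgz, e0]
    exact hy)
  exact ⟨c, hc, by rw [hc', e0]⟩

theorem surj {t : ℕ} (ht : ∀ v : V, t • (3 : ℕ) • v = v) {w : V} (hw : w ∈ ww z) :
    ∃ a ∈ wx x z, ∃ b ∈ wx x z, ∃ c ∈ wx x z, a + g b + g (g c) = w := by
  have h1 := C.sum_nn hw
  have hy : ∀ v, v ∈ ww z → (x * z) v ∈ ww z := fun v hv => C.x_mem (C.z_mem hv)
  have hy' : ∀ v, v ∈ ww z → (x * z * z) v ∈ ww z := fun v hv => C.x_mem (C.z_mem (C.z_mem hv))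
  obtain ⟨b, hb, hb'⟩ := C.exists_b (u := t • nn (x * z) w) ((ww z).nsmul_mem (C.nn_mem_of hy hw) t) (by
    rw [map_nsmul, nn_fixed C.y3])
  obtain ⟨c, hc, hc'⟩ := C.exists_c (u := t • nn (x * z * z) w) ((ww z).nsmul_mem (C.nn_mem_of hy' hw) t) (by
    rw [map_nsmul, nn_fixed C.y3'])
  refine ⟨t • nn x w, ?_, b, hb, c, hc, ?_⟩
  · rw [mem_wx]
    refine ⟨?_, ?_⟩
    · exact (ww z).nsmul_mem (C.nn_mem_of (fun v hv => C.x_mem hv) hw) t
    · rw [map_nsmul, nn_fixed C.x3]
  · rw [hb', hc', ← nsmul_add, ← nsmul_add, h1, ht]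

/-- `|ker (1 + z + z²)| = |C_W(x)|³` -/
theorem card_ww {t : ℕ} (ht : ∀ v : V, t • (3 : ℕ) • v = v) : Nat.card (ww z) = Nat.card (wx x z) ^ 3 := by
  have h3 : ∀ v : V, (3 : ℕ) • v = 0 → v = 0 := fun v hv => by rw [← ht v, hv, nsmul_zero]
  let φ : wx x z × wx x z × wx x z →+ ww z :=
    { toFun := fun a => ⟨a.1 + g a.2.1 + g (g a.2.2), (ww z).add_mem ((ww z).add_mem (mem_wx.1 a.1.2).1
        (C.g_mem (mem_wx.1 a.2.1.2).1)) (C.g_mem (C.g_mem (mem_wx.1 a.2.2.2).1))⟩
      map_zero' := Subtype.ext (by simp)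
      map_add' := fun a b => Subtype.ext (by
        simp only [Prod.fst_add, Prod.snd_add, AddSubgroup.coe_add, map_add]
        abel) }
  have hφ : Function.Bijective φ := by
    constructor
    · rw [injective_iff_map_eq_zero]
      rintro ⟨a, b, c⟩ h
      have h1 := congrArg Subtype.val h
      obtain ⟨e1, e2, e3⟩ := C.inj h3 a.2 b.2 c.2 h1
      exact Prod.ext (Subtype.ext e1) (Prod.ext (Subtype.ext e2) (Subtype.ext e3))
    · rintro ⟨w, hw⟩
      obtain ⟨a, ha, b, hb, c, hc, h⟩ := C.surj ht hw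
      exact ⟨(⟨a, ha⟩, ⟨b, hb⟩, ⟨c, hc⟩), Subtype.ext h⟩
  rw [← Nat.card_congr (Equiv.ofBijective φ hφ), Nat.card_prod, Nat.card_prod]
  ring

/-- **fixed spaces**: `|C_V(x)| = |K|²` and `C_V(z) = 0` if `dim_K V = 6` and `|K| ≡ 2 mod 3`. -/
theorem main (hx : ∀ (c : K) (v : V), x (c • v) = c • x v) (hz : ∀ (c : K) (v : V), z (c • v) = c • z v)
    (hK : Nat.card K % 3 = 2) (hn : Module.finrank K V = 6) (hz1 : z ≠ 1) :
    Nat.card (fx x) = Nat.card K ^ 2 ∧ ∀ v, z v = v → v = 0 := by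
  have hV : Nat.card V = Nat.card K ^ 6 := by
    have : Module.Finite K V := Module.Finite.of_finite
    rw [← hn]; exact Module.natCard_eq_pow_finrank
  have hq : 2 ≤ Nat.card K := by omega
  -- `3` is invertible on `V`
  have hcV : Nat.card V % 3 = 1 := by
    rw [hV, Nat.pow_mod, hK]
  obtain ⟨t, ht⟩ : ∃ t : ℕ, ∀ v : V, t • (3 : ℕ) • v = v := by
    have hcop : (3 : ℕ).Coprime (Nat.card V) := by
      rw [Nat.Prime.coprime_iff_not_dvd Nat.prime_three]
      omega
    obtain ⟨t, ht1, ht2⟩ := Nat.chineseRemainder hcop.symm 1 0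
    obtain ⟨k, hk⟩ := (Nat.modEq_zero_iff_dvd.1 ht2)
    refine ⟨k, fun v => ?_⟩
    rw [smul_smul, mul_comm, ← hk]
    have h1 : (1 : ℕ) • v = v := one_nsmul v
    conv_rhs => rw [← h1]
    have h2 : addOrderOf v ∣ Nat.card V := addOrderOf_dvd_natCard v
    rw [← mod_addOrderOf_nsmul v t, ← mod_addOrderOf_nsmul v 1]
    congr 1
    exact ht1.of_dvd h2
  have h3 : ∀ v : V, (3 : ℕ) • v = 0 → v = 0 := fun v hv => by rw [← ht v, hv, nsmul_zero]
  have hcard := C.card_ww ht
  obtain ⟨d, hd⟩ := card_pow (K := K) (wx x z : Set V) (wx x z).zero_mem (fun v hv w hw => (wx x z).add_mem hv hw)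
    (fun c v hv => by
      have hv' := mem_wx.1 hv
      refine mem_wx.2 ⟨?_, ?_⟩
      · rw [hz, hz, ← smul_add, ← smul_add, hv'.1, smul_zero]
      · rw [hx, hv'.2])
  change Nat.card (wx x z) = _ at hd
  -- `d` is even
  have hev : d % 2 = 0 := by
    have h4 : 3 ∣ Nat.card {v : wx x z // v ≠ 0} := by
      refine dvd_of_free Nat.prime_three (fun v => ⟨⟨z v.1.1, ?_⟩, ?_⟩) ?_ ?_
      · have hv' := mem_wx.1 v.1.2
        refine mem_wx.2 ⟨C.z_mem hv'.1, ?_⟩
        rw [C.cxz, hv'.2]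
      · intro h
        apply v.2
        have h5 : z v.1.1 = 0 := congrArg Subtype.val h
        exact Subtype.ext (z.map_eq_zero_iff.1 h5)
      · funext v
        refine Subtype.ext (Subtype.ext ?_)
        exact C.tz _
      · intro v hv
        apply v.2
        have h5 : z v.1.1 = v.1.1 := congrArg (fun a => a.1.1) hv
        exact Subtype.ext (C.w_nz (mem_wx.1 v.1.2).1 rfl h3 h5)
    have h5 : Nat.card {v : wx x z // v ≠ 0} + 1 = Nat.card (wx x z) := by
      classical
      have := Fintype.ofFinite (wx x z)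
      rw [Nat.card_eq_fintype_card, Nat.card_eq_fintype_card, Fintype.card_subtype_compl,
        Fintype.card_subtype_eq]
      exact Nat.sub_add_cancel Fintype.card_pos
    rw [hd] at h5
    by_contra hcon
    have h6 : d % 2 = 1 := by omega
    obtain ⟨k, hk⟩ : ∃ k, d = 2 * k + 1 := ⟨d / 2, by omega⟩
    have h7 : Nat.card K ^ d % 3 = 2 := by
      rw [Nat.pow_mod, hK, hk, pow_succ, pow_mul, Nat.mul_mod, Nat.pow_mod]
      norm_num
    omega
  -- `W ≠ 0`
  have hW : 1 < Nat.card (ww z) := by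
    obtain ⟨v, hv⟩ : ∃ v, z v ≠ v := by
      by_contra hcon
      push Not at hcon
      exact hz1 (LinearEquiv.ext hcon)
    rw [Finite.one_lt_card_iff_nontrivial]
    refine ⟨⟨⟨z v - v, ?_⟩, 0, ?_⟩⟩
    · rw [mem_ww, map_sub, map_sub, C.tz]
      abel
    · intro h
      exact hv (sub_eq_zero.1 (congrArg Subtype.val h))
  have hle : Nat.card (ww z) ≤ Nat.card V := Nat.card_le_card_of_injective _ Subtype.val_injective
  rw [hcard, hd, ← pow_mul] at hW hle
  rw [hV] at hle
  have hd3 : d * 3 ≤ 6 := (Nat.pow_le_pow_iff_right (by omega)).1 hle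
  have hd0 : d ≠ 0 := by
    rintro rfl
    simp at hW
  have hd2 : d = 2 := by omega
  subst hd2
  have hWV : Nat.card (ww z) = Nat.card V := by rw [hcard, hd, hV, ← pow_mul]
  have htop : ∀ v : V, v ∈ ww z := by
    have := AddSubgroup.eq_top_of_card_eq (ww z) hWV
    intro v
    rw [this]; trivial
  constructor
  · rw [← hd]
    refine Nat.card_congr (Equiv.subtypeEquivRight fun v => ?_)
    rw [mem_wx, mem_fx]
    exact ⟨fun h => ⟨htop v, h⟩, fun h => h.2⟩
  · intro v hv
    exact C.w_nz (htop v) rfl h3 hv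

end Cfg

end

end Cfsg.Agent.H933.HT
end

-- part: H933/HT/Cover
section
/-!
# S3540: coverage by elements of prime order, groups of order 27
-/

set_option autoImplicit false
set_option linter.unusedSectionVars false

universe u w

namespace Cfsg.Agent.H933.HT

open Cfsg.Agent.H828.HT Cfsg.Agent.H337.HT

/-- non-abelian groups of order 27 -/
theorem p27 {P : Type*} [Group P] (hc : Nat.card P = 27) (hna : ∃ a b : P, a * b ≠ b * a) :
    Nat.card (Subgroup.center P) = 3 ∧ ∀ x y : P, x * y * x⁻¹ * y⁻¹ ∈ Subgroup.center P := by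
  have h3 : Fact (Nat.Prime 3) := ⟨Nat.prime_three⟩
  have hfin : Finite P := Nat.finite_of_card_ne_zero (by rw [hc]; norm_num)
  have hP : IsPGroup 3 P := IsPGroup.of_card (n := 3) (by rw [hc]; norm_num)
  have hnt : Nontrivial P := Finite.one_lt_card_iff_nontrivial.1 (by rw [hc]; norm_num)
  have hZ : 1 < Nat.card (Subgroup.center P) := Finite.one_lt_card_iff_nontrivial.2 hP.center_nontrivial
  have hd : Nat.card (Subgroup.center P) ∣ 3 ^ 3 := by
    have := Subgroup.card_subgroup_dvd_card (Subgroup.center P)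
    rw [hc] at this
    exact this
  obtain ⟨k, hk, hk2⟩ := (Nat.dvd_prime_pow Nat.prime_three).1 hd
  have hmul := Subgroup.card_eq_card_quotient_mul_card_subgroup (Subgroup.center P)
  have hnc : ¬ ∀ a b : P, a * b = b * a := by
    obtain ⟨a, b, hab⟩ := hna
    exact fun h => hab (h a b)
  have hk1 : k = 1 := by
    interval_cases k
    · rw [pow_zero] at hk2; omega
    · rfl
    · exfalso
      rw [hc, hk2] at hmul
      have h4 : Nat.card (P ⧸ Subgroup.center P) = 3 := by omega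
      have h5 : IsCyclic (P ⧸ Subgroup.center P) := isCyclic_of_prime_card h4
      apply hnc
      exact (commutative_of_cyclic_center_quotient (QuotientGroup.mk' (Subgroup.center P))
        (by rw [QuotientGroup.ker_mk']))
    · exfalso
      have h4 : Subgroup.center P = ⊤ := Subgroup.eq_top_of_card_eq _ (by rw [hk2, hc]; norm_num)
      apply hnc
      intro a b
      have : b ∈ Subgroup.center P := by rw [h4]; trivial
      exact Subgroup.mem_center_iff.1 this a
  subst hk1
  rw [pow_one] at hk2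
  refine ⟨hk2, fun x y => ?_⟩
  have h4 : Nat.card (P ⧸ Subgroup.center P) = 3 ^ 2 := by rw [hc, hk2] at hmul; omega
  have h5 := IsPGroup.commutative_of_card_eq_prime_sq h4
  rw [← QuotientGroup.eq_one_iff]
  have h6 : ((x * y * x⁻¹ * y⁻¹ : P) : P ⧸ Subgroup.center P) = x * y * (x : P ⧸ Subgroup.center P)⁻¹ * (y : P ⧸ Subgroup.center P)⁻¹ := rfl
  rw [h6, h5 x y]
  group

/-- two-sided counting -/
theorem card_mul_le {X Y : Type*} [Finite X] [Finite Y] (R : Y → X → Prop) {m n : ℕ}
    (hm : ∀ y, m ≤ Nat.card {x // R y x}) (hn : ∀ x, Nat.card {y // R y x} ≤ n) :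
    Nat.card Y * m ≤ Nat.card X * n := by
  classical
  have := Fintype.ofFinite X
  have := Fintype.ofFinite Y
  have h := Finset.card_mul_le_card_mul (s := (Finset.univ : Finset Y)) (t := (Finset.univ : Finset X)) R (m := m)
    (n := n) (fun y _ => by
      have := hm y
      rw [Nat.card_eq_fintype_card, Fintype.card_subtype] at this
      exact this) (fun x _ => by
      have := hn x
      rw [Nat.card_eq_fintype_card, Fintype.card_subtype] at this
      exact this)
  rw [Nat.card_eq_fintype_card, Nat.card_eq_fintype_card]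
  exact h

theorem card_ne {X : Type*} [Finite X] (a : X) : Nat.card {x : X // x ≠ a} + 1 = Nat.card X := by
  classical
  have h1 : Nat.card {x : X // x = a} = 1 := by
    rw [Nat.card_eq_one_iff_unique]
    exact ⟨⟨fun s t => Subtype.ext (s.2.trans t.2.symm)⟩, ⟨⟨a, rfl⟩⟩⟩
  have h2 : Nat.card X = Nat.card {u : X // u = a} + Nat.card {u : X // u ≠ a} := by
    rw [← Nat.card_sum]
    exact Nat.card_congr (Equiv.sumCompl (fun u : X => u = a)).symm
  omega

variable {p : ℕ} [Fact p.Prime] {K : Type w} [Field K] {V : Type u} [AddCommGroup V] [Module (ZMod p) V] [Finite V]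
    [Module K V] {G L : Subgroup (V ≃ₗ[ZMod p] V)} {h : ℕ}

/-- **(COVL)** -/
theorem exists_fix (H : QS p K V G L h) {r a : ℕ} (hr : r.Prime) (hrL : r ^ a ∣ Nat.card L)
    (hna : ¬ r ^ a ∣ Nat.card V - 1) {v : V} (hv : v ≠ 0) :
    ∃ x : L, orderOf x = r ∧ (x : V ≃ₗ[ZMod p] V) v = v := by
  classical
  have := Fact.mk hr
  obtain ⟨m, hm, -⟩ := exists_m H.half H.exists_ne
  have h0 : 0 < h := by have := H.two_le; omega
  have h1 := orbit_normal_dvd_m H.half h0 hm L H.le H.nrm hv
  have h2 := h1.trans (dvd_card_sub_one H.half h0 hm)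
  have h3 := MulAction.card_orbit_mul_card_stabilizer_eq_card_group L v
  rw [← Nat.card_eq_fintype_card, ← Nat.card_eq_fintype_card, ← Nat.card_eq_fintype_card] at h3
  have h4 : r ∣ Nat.card (MulAction.stabilizer L v) := by
    by_contra hcon
    apply hna
    refine dvd_trans ?_ h2
    rw [← h3] at hrL
    exact Nat.Coprime.dvd_of_dvd_mul_right (Nat.Coprime.pow_left a ((Nat.Prime.coprime_iff_not_dvd hr).2 hcon)) hrL
  obtain ⟨x, hx⟩ := exists_prime_orderOf_dvd_card' r h4
  exact ⟨x.1, by rw [← hx, Subgroup.orderOf_coe], x.2⟩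

/-- coverage, elements version: `X` the set of elements of order `r` of `L` -/
theorem cover_card {r N d : ℕ} (hr : r.Prime)
    (hfix : ∀ v : V, v ≠ 0 → ∃ x : L, orderOf x = r ∧ (x : V ≃ₗ[ZMod p] V) v = v)
    (hN : Nat.card {x : L // orderOf x = r} ≤ N)
    (hd : ∀ x : L, orderOf x = r → Nat.card (fx (x : V ≃ₗ[ZMod p] V)) ≤ d) :
    (Nat.card V - 1) * (r - 1) ≤ N * (d - 1) := by
  classical
  have hVf : Finite {v : V // v ≠ 0} := inferInstance
  have hXf : Finite {x : L // orderOf x = r} := inferInstance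
  have h1 := card_mul_le (Y := {v : V // v ≠ 0}) (X := {x : L // orderOf x = r})
    (fun v x => (x.1 : V ≃ₗ[ZMod p] V) v.1 = v.1) (m := r - 1) (n := d - 1) (by
      intro v
      obtain ⟨x, hx, hxv⟩ := hfix v.1 v.2
      -- the non-trivial powers of `x`
      have h2 : Nat.card {y : Subgroup.zpowers x // y ≠ 1} = r - 1 := by
        have := card_ne (X := Subgroup.zpowers x) 1
        rw [Nat.card_zpowers, hx] at this
        omega
      rw [← h2]
      have hord : ∀ y : Subgroup.zpowers x, y ≠ 1 → orderOf (y : L) = r := by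
        intro y hy
        have h3 : orderOf (y : L) ∣ r := by
          rw [← hx, Subgroup.orderOf_coe, ← Nat.card_zpowers x]
          exact orderOf_dvd_natCard y
        rcases (Nat.dvd_prime hr).1 h3 with h4 | h4
        · exact absurd (Subtype.ext (orderOf_eq_one_iff.1 h4)) hy
        · exact h4
      have hfixy : ∀ y : Subgroup.zpowers x, ((y : L) : V ≃ₗ[ZMod p] V) v.1 = v.1 := by
        rintro ⟨y, hy⟩
        have h5 : Subgroup.zpowers x ≤ MulAction.stabilizer L v.1 := by
          rw [Subgroup.zpowers_le]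
          exact hxv
        exact h5 hy
      refine Nat.card_le_card_of_injective (fun y : {y : Subgroup.zpowers x // y ≠ 1} =>
        (⟨⟨(y.1 : L), hord y.1 y.2⟩, hfixy y.1⟩ :
          {x : {x : L // orderOf x = r} // (x.1 : V ≃ₗ[ZMod p] V) v.1 = v.1})) ?_
      intro y z hyz
      have h6 : (y.1 : L) = z.1 := congrArg (fun a => (a.1.1 : L)) hyz
      exact Subtype.ext (Subtype.ext h6))
    (by
      intro x
      have h2 := hd x.1 x.2
      have h3 := card_ne (X := fx (x.1 : V ≃ₗ[ZMod p] V)) 0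
      have h4 : Nat.card {v : {v : V // v ≠ 0} // (x.1 : V ≃ₗ[ZMod p] V) v.1 = v.1} ≤
          Nat.card {v : fx (x.1 : V ≃ₗ[ZMod p] V) // v ≠ 0} := by
        refine Nat.card_le_card_of_injective (fun v => ⟨⟨v.1.1, mem_fx.2 v.2⟩, fun hv => v.1.2 (congrArg Subtype.val hv)⟩) ?_
        intro a b hab
        have h6 : a.1.1 = b.1.1 := congrArg (fun a => (a.1.1 : V)) hab
        exact Subtype.ext (Subtype.ext h6)
      omega)
  have h5 := card_ne (X := V) 0
  have h6 : Nat.card V - 1 = Nat.card {v : V // v ≠ 0} := by omega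
  rw [h6]
  exact h1.trans (Nat.mul_le_mul_right _ hN)

end Cfsg.Agent.H933.HT
end

-- part: H933/HT/U33
section
/-!
# S3540, `n = 6`: `L / Z(L) ≅ U₃(3)` does not occur
-/

set_option autoImplicit false
set_option linter.unusedSectionVars false

universe u w

namespace Cfsg.Agent.H933.HT

open Cfsg.Agent.H828.HT Cfsg.Agent.H337.HT

variable {p : ℕ} [Fact p.Prime] {K : Type w} [Field K] {V : Type u} [AddCommGroup V] [Module (ZMod p) V] [Finite V]
    [Module K V] {G L : Subgroup (V ≃ₗ[ZMod p] V)} {h : ℕ}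

/-- `f x = 1`, `x` an `r`-element, `r` prime to `|Z(L)|` -/
theorem eq_one_of_ker {T : Type*} [Group T] {f : L →* T} (hf : f.ker = Subgroup.center L) {r : ℕ} (hr : r.Prime)
    (hz : ¬ r ∣ Nat.card (Subgroup.center L)) {x : L} (hx : f x = 1) {k : ℕ} (hk : x ^ r ^ k = 1) : x = 1 := by
  have h1 : x ∈ Subgroup.center L := by rw [← hf]; exact hx
  have h2 : orderOf x ∣ Nat.card (Subgroup.center L) := by
    have := orderOf_dvd_natCard (⟨x, h1⟩ : Subgroup.center L)
    rwa [← Subgroup.orderOf_coe] at this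
  have h3 : orderOf x ∣ r ^ k := orderOf_dvd_of_pow_eq_one hk
  have h4 : (r ^ k).Coprime (Nat.card (Subgroup.center L)) :=
    Nat.Coprime.pow_left k ((Nat.Prime.coprime_iff_not_dvd hr).2 hz)
  have h5 : orderOf x ∣ 1 := by rw [← h4]; exact Nat.dvd_gcd h3 h2
  exact orderOf_eq_one_iff.1 (Nat.dvd_one.1 h5)

/-- fixed spaces of the elements of order three -/
theorem u33_fix (H : QS p K V G L h) (hn : Module.finrank K V = 6) (hK : Nat.card K % 3 = 2)
    {F : Type} [Field F] [Fintype F] (hF : Fintype.card F = 3 ^ 2) {f : L →* Cfsg.PSU 3 F 3}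
    (hf : Function.Surjective f) (hker : f.ker = Subgroup.center L) (hz : ¬ 3 ∣ Nat.card (Subgroup.center L)) :
    (∀ y : L, orderOf y = 3 → Nat.card (fx (y : V ≃ₗ[ZMod p] V)) ≤ Nat.card K ^ 2) ∧
    ∃ x : L, orderOf x = 3 ∧ Nat.card (fx (x : V ≃ₗ[ZMod p] V)) = Nat.card K ^ 2 := by
  have h3p : Fact (Nat.Prime 3) := ⟨Nat.prime_three⟩
  have hq : 2 ≤ Nat.card K := H.two_le_card
  have hcL : Nat.card L = Nat.card (Subgroup.center L) * 6048 := by
    rw [← u33_card hF, ← hker, ← Subgroup.card_mul_index f.ker, Subgroup.index_ker]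
    congr 1
    rw [MonoidHom.range_eq_top.2 hf, Subgroup.card_top]
  -- the Sylow subgroups of `L`
  have key : ∀ P : Sylow 3 L, (∀ y ∈ P, y ≠ 1 → Nat.card (fx (y : V ≃ₗ[ZMod p] V)) ≤ Nat.card K ^ 2) ∧
      ∃ x ∈ P, x ≠ 1 ∧ x ^ 3 = 1 ∧ Nat.card (fx (x : V ≃ₗ[ZMod p] V)) = Nat.card K ^ 2 := by
    intro P
    have hinj : ∀ x ∈ P, f x = 1 → x = 1 := by
      intro x hx h1
      obtain ⟨k, hk⟩ := P.isPGroup' ⟨x, hx⟩
      exact eq_one_of_ker hker Nat.prime_three hz h1 (k := k) (congrArg Subtype.val hk)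
    have hinj' : Function.Injective (f.comp (P : Subgroup L).subtype) := by
      rw [injective_iff_map_eq_one]
      rintro ⟨x, hx⟩ h1
      exact Subtype.ext (hinj x hx h1)
    have hr : IsPGroup 3 (f.comp (P : Subgroup L).subtype).range := by
      have h1 : (f.comp (P : Subgroup L).subtype).range = (P : Subgroup L).map f := by
        rw [MonoidHom.range_comp, Subgroup.range_subtype]
      rw [h1]
      exact P.isPGroup'.map f
    obtain ⟨Q, hQ⟩ := hr.exists_le_sylow
    obtain ⟨hQc, ⟨u, hu, v, hv, huv⟩, hexp⟩ := u33_sylow hF Q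
    have hcP : Nat.card P = 27 := by
      have h1 : 3 ^ 3 ∣ Nat.card P := by
        refine P.pow_dvd_card_of_pow_dvd_card ?_
        rw [hcL]
        exact Dvd.dvd.mul_left (by norm_num) _
      have h2 : Nat.card P = Nat.card (f.comp (P : Subgroup L).subtype).range :=
        Nat.card_congr (MonoidHom.ofInjective hinj').toEquiv
      have h3 : Nat.card P ≤ 27 := by
        rw [h2, ← hQc]
        exact Subgroup.card_le_of_le hQ
      have h4 : 0 < Nat.card P := Nat.card_pos
      exact le_antisymm h3 (Nat.le_of_dvd h4 h1)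
    have hrange : (f.comp (P : Subgroup L).subtype).range = Q := by
      refine Subgroup.eq_of_le_of_card_ge hQ ?_
      rw [← Nat.card_congr (MonoidHom.ofInjective hinj').toEquiv, hcP, hQc]
    have hexpP : ∀ x : P, x ^ 3 = 1 := by
      intro x
      apply hinj'
      rw [map_pow, map_one]
      apply hexp
      have : (f.comp (P : Subgroup L).subtype) x ∈ (f.comp (P : Subgroup L).subtype).range := ⟨x, rfl⟩
      rw [hrange] at this
      exact this
    obtain ⟨a, ha⟩ : u ∈ (f.comp (P : Subgroup L).subtype).range := by rw [hrange]; exact hu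
    obtain ⟨b, hb⟩ : v ∈ (f.comp (P : Subgroup L).subtype).range := by rw [hrange]; exact hv
    have hab : a * b ≠ b * a := by
      intro h1
      apply huv
      rw [← ha, ← hb, ← map_mul, ← map_mul, h1]
    obtain ⟨hZ, hcom⟩ := p27 hcP ⟨a, b, hab⟩
    -- the configuration of a non-central element
    have conf : ∀ x g : P, g * x ≠ x * g → ∃ z : P, z ∈ Subgroup.center P ∧ z ≠ 1 ∧
        Nat.card (fx ((x : L) : V ≃ₗ[ZMod p] V)) = Nat.card K ^ 2 ∧
        ∀ v : V, ((z : L) : V ≃ₗ[ZMod p] V) v = v → v = 0 := by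
      intro x g hxg
      obtain ⟨z, hzd⟩ : ∃ z, z = x⁻¹ * g * x⁻¹⁻¹ * g⁻¹ := ⟨_, rfl⟩
      have hzc : z ∈ Subgroup.center P := by rw [hzd]; exact hcom x⁻¹ g
      have hgx : g * x = x * z * g := by rw [hzd]; group
      have hz1 : z ≠ 1 := by
        rintro rfl
        apply hxg
        rw [hgx, mul_one]
      have hx3 := hexpP x
      have hz3 := hexpP z
      have C : Cfg ((x : L) : V ≃ₗ[ZMod p] V) ((g : L) : V ≃ₗ[ZMod p] V) ((z : L) : V ≃ₗ[ZMod p] V) :=
        { x3 := congrArg (fun y : P => ((y : L) : V ≃ₗ[ZMod p] V)) hx3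
          z3 := congrArg (fun y : P => ((y : L) : V ≃ₗ[ZMod p] V)) hz3
          xz := congrArg (fun y : P => ((y : L) : V ≃ₗ[ZMod p] V)) (Subgroup.mem_center_iff.1 hzc x)
          gz := congrArg (fun y : P => ((y : L) : V ≃ₗ[ZMod p] V)) (Subgroup.mem_center_iff.1 hzc g)
          gx := congrArg (fun y : P => ((y : L) : V ≃ₗ[ZMod p] V)) hgx }
      obtain ⟨h1, h2⟩ := C.main (K := K) (fun c v => H.lin _ (x : L).2 c v) (fun c v => H.lin _ (z : L).2 c v) hK hn (by
        intro h1
        exact hz1 (Subtype.ext (Subtype.ext h1)))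
      exact ⟨z, hzc, hz1, h1, h2⟩
    constructor
    · intro y hy hy1
      by_cases hyc : (⟨y, hy⟩ : P) ∈ Subgroup.center P
      · obtain ⟨z, hzc, hz1, -, hz2⟩ := conf a b hab.symm
        -- `⟨y⟩ = Z(P)`
        have hpr : (Nat.card (Subgroup.center P)).Prime := by rw [hZ]; exact Nat.prime_three
        have hy2 : (⟨⟨y, hy⟩, hyc⟩ : Subgroup.center P) ≠ 1 := by
          intro h1
          exact hy1 (congrArg (fun t : Subgroup.center P => ((t : P) : L)) h1)
        have hmem : (⟨z, hzc⟩ : Subgroup.center P) ∈ Subgroup.zpowers (⟨⟨y, hy⟩, hyc⟩ : Subgroup.center P) := by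
          have := Fact.mk hpr
          exact mem_zpowers_of_prime_card rfl hy2
        obtain ⟨k, hk⟩ := Subgroup.mem_zpowers_iff.1 hmem
        have hk' : y ^ k = (z : L) := congrArg (fun t : Subgroup.center P => ((t : P) : L)) hk
        have h1 : ∀ v : V, (y : V ≃ₗ[ZMod p] V) v = v → v = 0 := by
          intro v hv
          apply hz2
          have h5 : Subgroup.zpowers y ≤ MulAction.stabilizer L v := by
            rw [Subgroup.zpowers_le]
            exact hv
          have h6 : (z : L) ∈ MulAction.stabilizer L v := h5 (Subgroup.mem_zpowers_iff.2 ⟨k, hk'⟩)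
          exact h6
        have h2 : Nat.card (fx (y : V ≃ₗ[ZMod p] V)) = 1 := by
          rw [Nat.card_eq_one_iff_unique]
          refine ⟨⟨fun s t => Subtype.ext ?_⟩, ⟨0⟩⟩
          rw [h1 _ (mem_fx.1 s.2), h1 _ (mem_fx.1 t.2)]
        rw [h2]
        exact Nat.one_le_pow _ _ (by omega)
      · obtain ⟨g, hg⟩ : ∃ g : P, g * ⟨y, hy⟩ ≠ ⟨y, hy⟩ * g := by
          by_contra hcon
          push Not at hcon
          exact hyc (Subgroup.mem_center_iff.2 hcon)
        obtain ⟨z, -, -, h1, -⟩ := conf _ g hg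
        exact h1.le
    · obtain ⟨z, -, -, h1, -⟩ := conf a b hab.symm
      refine ⟨a, a.2, ?_, congrArg Subtype.val (hexpP a), h1⟩
      intro h2
      have h3 : a = 1 := Subtype.ext h2
      apply hab
      rw [h3, one_mul, mul_one]
  constructor
  · intro y hy
    have h1 : IsPGroup 3 (Subgroup.zpowers y) := IsPGroup.of_card (n := 1) (by rw [Nat.card_zpowers, hy, pow_one])
    obtain ⟨P, hP⟩ := h1.exists_le_sylow
    refine (key P).1 y (hP (Subgroup.mem_zpowers y)) ?_
    rintro rfl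
    rw [orderOf_one] at hy
    omega
  · obtain ⟨P⟩ : Nonempty (Sylow 3 L) := inferInstance
    obtain ⟨x, -, hx1, hx3, hx⟩ := (key P).2
    exact ⟨x, orderOf_eq_prime hx3 hx1, hx⟩

/-- **`n = 6`, `U₃(3)`** -/
theorem kill_six_U33 (H : QS p K V G L h) (hn : Module.finrank K V = 6)
    (hS : H912.Bd.IsU 3 3 (L ⧸ Subgroup.center L)) : False := by
  obtain ⟨F, _, _, hF, ⟨e⟩⟩ := hS
  have hq := H.two_le_card
  have hcS : Nat.card (L ⧸ Subgroup.center L) = 6048 := by rw [Nat.card_congr e.toEquiv, u33_card hF]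
  have hcA : Nat.card (MulAut (L ⧸ Subgroup.center L)) = 12096 := by
    rw [Nat.card_congr (MulAut.congr e).toEquiv, u33_aut hF]
  have hco := H.coprime
  rw [hcS] at hco
  have hc1 := H.cand (one_dvd h)
  rw [hcS, hcA, hn] at hc1
  have hl := u33_list hq hco hc1
  have hK : Nat.card K % 3 = 2 := by
    rcases hl with h1 | h1 | h1 | h1 <;> rw [h1]
  have hz : ¬ 3 ∣ Nat.card (Subgroup.center L) := by
    intro h1
    have h2 := h1.trans (card_center_dvd H)
    omega
  let f : L →* Cfsg.PSU 3 F 3 := e.toMonoidHom.comp (QuotientGroup.mk' (Subgroup.center L))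
  have hf : Function.Surjective f := e.surjective.comp (QuotientGroup.mk'_surjective _)
  have hker : f.ker = Subgroup.center L := by
    ext x
    rw [MonoidHom.mem_ker]
    change e _ = 1 ↔ _
    rw [map_eq_one_iff _ e.injective, QuotientGroup.mk'_apply, QuotientGroup.eq_one_iff]
  obtain ⟨hfx, x0, hx0, hx0f⟩ := u33_fix H hn hK hF hf hker hz
  -- `3 ∣ h`
  have h3 : 3 ∣ h := by
    obtain ⟨v, hv⟩ : ∃ v : fx (x0 : V ≃ₗ[ZMod p] V), v ≠ 0 := by
      have h1 : 1 < Nat.card (fx (x0 : V ≃ₗ[ZMod p] V)) := by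
        rw [hx0f]
        exact Nat.one_lt_pow two_ne_zero (by omega)
      have := Finite.one_lt_card_iff_nontrivial.1 h1
      exact exists_ne 0
    refine dvd_h H.half (g := ⟨x0, H.le x0.2⟩) ?_ (v := v.1) (fun h1 => hv (Subtype.ext h1)) (mem_fx.1 v.2)
    rw [← hx0, ← Subgroup.orderOf_coe, ← Subgroup.orderOf_coe x0]
  have hc3 := H.cand h3
  rw [hcS, hcA, hn] at hc3
  have hl3 := u33_list3 hq hco hc3
  have hV : Nat.card V = Nat.card K ^ 6 := by rw [H.card_V, hn]
  have hcL : 3 ^ 3 ∣ Nat.card L := by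
    refine dvd_trans ?_ H.card_quot_dvd_L
    rw [hcS]; norm_num
  have hfix : ∀ v : V, v ≠ 0 → ∃ x : L, orderOf x = 3 ∧ (x : V ≃ₗ[ZMod p] V) v = v := fun v hv =>
    exists_fix H Nat.prime_three hcL (by
      rw [hV]
      rcases hl3 with h1 | h1 | h1 <;> rw [h1] <;> norm_num) hv
  have hN : Nat.card {x : L // orderOf x = 3} ≤ 728 := by
    refine le_trans ?_ (u33_count hF)
    have hm : ∀ x : L, orderOf x = 3 → f x ≠ 1 ∧ f x ^ 3 = 1 := by
      intro x hx
      have hx3 : x ^ 3 = 1 := by rw [← hx]; exact pow_orderOf_eq_one x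
      refine ⟨fun h1 => ?_, by rw [← map_pow, hx3, map_one]⟩
      have h2 := eq_one_of_ker hker Nat.prime_three hz h1 (k := 1) (by rw [pow_one]; exact hx3)
      rw [h2, orderOf_one] at hx
      omega
    refine Nat.card_le_card_of_injective (fun x : {x : L // orderOf x = 3} =>
      (⟨f x.1, hm x.1 x.2⟩ : {t : Cfsg.PSU 3 F 3 // t ≠ 1 ∧ t ^ 3 = 1})) ?_
    intro x y hxy
    have h1 : f x.1 = f y.1 := congrArg Subtype.val hxy
    have h2 : f (x.1⁻¹ * y.1) = 1 := by rw [map_mul, map_inv, h1, inv_mul_cancel]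
    have h3 : x.1⁻¹ * y.1 ∈ Subgroup.center L := by rw [← hker]; exact h2
    have hx3 : x.1 ^ 3 = 1 := orderOf_dvd_iff_pow_eq_one.1 (by rw [x.2])
    have hy3 : y.1 ^ 3 = 1 := orderOf_dvd_iff_pow_eq_one.1 (by rw [y.2])
    have h4 : (x.1⁻¹ * y.1) ^ 3 = 1 := by
      have hcm : Commute x.1 (x.1⁻¹ * y.1) := Subgroup.mem_center_iff.1 h3 x.1
      have h5 : y.1 = x.1 * (x.1⁻¹ * y.1) := by group
      have h6 : y.1 ^ 3 = x.1 ^ 3 * (x.1⁻¹ * y.1) ^ 3 := by
        conv_lhs => rw [h5]
        exact hcm.mul_pow 3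
      rw [hy3, hx3, one_mul] at h6
      exact h6.symm
    have h5 := eq_one_of_ker hker Nat.prime_three hz h2 (k := 1) (by rw [pow_one]; exact h4)
    exact Subtype.ext (inv_mul_eq_one.1 h5)
  have hfin := cover_card Nat.prime_three hfix hN hfx
  rw [hV] at hfin
  rcases hl3 with h1 | h1 | h1 <;> rw [h1] at hfin <;> norm_num at hfin

end Cfsg.Agent.H933.HT
end

private theorem dce_77c9ca7bb469 : _root_.True := by
  try have : _root_.True := by simp only [_root_.Cfsg.Agent.H933.HT.loopL.eq_2]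
  try have : _root_.True := by simp only [_root_.Cfsg.Agent.H933.HT.tst.eq_1]
  try have : _root_.True := by simp only [_root_.Cfsg.Agent.H933.HT.loopL.eq_1]
  try have : _root_.True := by simp only [_root_.Cfsg.Agent.H933.HT.wx.eq_1]
  try have : _root_.True := by simp only [_root_.Cfsg.Agent.H933.HT.loopL.eq_def]
  exact _root_.True.intro
end

-- part: H933/HT/Five
section
prune_inst 0x2
set_option linter.all false

/-!
# S3540: an element of order five conjugate to its square has a fixed vector in `𝔽₁₉⁶`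
-/

set_option autoImplicit false
set_option linter.unusedSectionVars false

universe u w

namespace Cfsg.Agent.H933.HT

open Cfsg.Agent.H828.HT Cfsg.Agent.H337.HT

variable {p : ℕ} [Fact p.Prime] {V : Type u} [AddCommGroup V] [Module (ZMod p) V] [Finite V]

section

variable {w g : V ≃ₗ[ZMod p] V} (h19 : ∀ v : V, (19 : ℕ) • v = 0) (hw5 : ∀ v, w (w (w (w (w v)))) = v)
  (hgw : ∀ v, g (w v) = w (w (g v))) (hfix : ∀ v, w v = v → v = 0)

end

end Cfsg.Agent.H933.HT
end

-- part: H933/HT/U43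
section
prune_inst 0x4000440004002000000050050001c66de00019000080000c8400b400e800c0209000020b4b00000000200840038004001000010420000000a000400011900a0808b5002b2580d0424001f800080000000000000000000000000000000000000000000000
set_option linter.all false
open scoped Cfsg.Agent.FastGrp

/-!
# S3540, `n = 6`: `L / Z(L) ≅ U₄(3)` does not occur
-/

set_option autoImplicit false
set_option linter.unusedSectionVars false

universe u w

namespace Cfsg.Agent.H933.HT

open Cfsg.Agent.H828.HT Cfsg.Agent.H337.HT Cfsg.Agent.ClassicalGeometry.PSUAutBasic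

section

variable {F : Type*} [Field F] [Fintype F]

theorem u43_card (hF : Fintype.card F = 3 ^ 2) : Nat.card (Cfsg.PSU 4 F 3) = 3265920 := by
  have h := S0280.result hF 4 (by norm_num)
  generalize Nat.card (Cfsg.PSU 4 F 3) = N at h ⊢
  norm_num only [Finset.prod_range_succ, _root_.Finset.range_one, _root_.Finset.prod_singleton, _root_.ite_true, _root_.ite_false] at h
  omega

theorem u43_aut (hF : Fintype.card F = 3 ^ 2) : Nat.card (MulAut (Cfsg.PSU 4 F 3)) = 26127360 := by
  have : Fact (Nat.Prime 3) := ⟨Nat.prime_three⟩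
  have h := S0815.result (F := F) 3 1 le_rfl (q := 3) (by norm_num) hF 4 (by norm_num) (by norm_num)
  rw [u43_card hF] at h
  rw [h]
  norm_num

theorem charP_three (hF : Fintype.card F = 3 ^ 2) : CharP F 3 := by
  obtain ⟨r, hr⟩ := CharP.exists F
  have hrp : Fact r.Prime := ⟨CharP.char_is_prime F r⟩
  obtain ⟨a, ha0, ha⟩ := FiniteField.card F r
  have h1 : r ∣ 3 ^ 2 := by
    rw [← hF, ha]; exact dvd_pow_self r a.pos.ne'
  have h2 := (Nat.prime_dvd_prime_iff_eq hrp.out Nat.prime_three).1 (hrp.out.dvd_of_dvd_pow h1)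
  rwa [h2] at hr

/-- an element of order five of `Sp₄(3)` -/
def y5 : H373.OC.Sp4 (ZMod 3) :=
  ⟨Matrix.fromBlocks !![2, 1; 0, 0] !![0, 0; 1, 1] !![1, 2; 0, 2] !![2, 0; 1, 1], by
    rw [SymplecticGroup.mem_iff]; decide +kernel⟩

/-- it is conjugate to its square -/
def g5 : H373.OC.Sp4 (ZMod 3) :=
  ⟨Matrix.fromBlocks !![0, 1; 1, 1] !![2, 1; 2, 0] !![0, 0; 0, 0] !![2, 1; 1, 0], by
    rw [SymplecticGroup.mem_iff]; decide +kernel⟩

theorem y5_pow : y5 ^ 5 = 1 := by
  apply Subtype.ext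
  rw [SubmonoidClass.coe_pow]
  decide +kernel

theorem y5_ne : y5 ≠ 1 := by
  intro h
  have h1 := congrArg (fun A : H373.OC.Sp4 (ZMod 3) => A.1 (Sum.inl 0) (Sum.inl 0)) h
  revert h1
  decide

theorem g5_y5 : g5 * y5 = y5 ^ 2 * g5 := by
  apply Subtype.ext
  decide +kernel

end

variable {p : ℕ} [Fact p.Prime] {K : Type w} [Field K] {V : Type u} [AddCommGroup V] [Module (ZMod p) V] [Finite V]
    [Module K V] {G L : Subgroup (V ≃ₗ[ZMod p] V)} {h : ℕ}

end Cfsg.Agent.H933.HT
end

-- part: H79/HT/ArithP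
section
prune_inst 0x352005407c40020000000582330020247c00019200600001f9400f420b4fd3628940210046801c14124eb28018400000011000d0420000000a0034000003002080aa5200b37c0f042c001f803087180c00000000000000000000000000041004000000002
set_option linter.all false
open scoped Cfsg.Agent.FastGrp

/-!
# S3512, row PB6: arithmetic (helper79)
-/

set_option autoImplicit false

namespace Cfsg.Agent.H79.HT.P

/-- `s ^ 4 ≤ 4 ^ s` -/
theorem pow4 {s : ℕ} (h : 4 ≤ s) : s ^ 4 ≤ 4 ^ s := by
  induction s, h using Nat.le_induction with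
  | base => norm_num
  | succ s hs ih =>
    have h1 : (s + 1) ^ 4 ≤ 4 * s ^ 4 := by
      have h2 : 4 * (s + 1) ≤ 5 * s := by omega
      have h3 : (4 * (s + 1)) ^ 4 ≤ (5 * s) ^ 4 := Nat.pow_le_pow_left h2 4
      rw [mul_pow, mul_pow] at h3
      norm_num at h3
      omega
    calc (s + 1) ^ 4 ≤ 4 * s ^ 4 := h1
      _ ≤ 4 * 4 ^ s := Nat.mul_le_mul_left _ ih
      _ = 4 ^ (s + 1) := by ring

/-- growth in `m` -/
theorem grow {s b c m₀ : ℕ} (hs : 2 ≤ s) (hm₀ : 4 ≤ m₀) (hsb : s ≤ b ^ c) (hb : 1 ≤ b)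
    (h0 : 128 * s ^ (4 * m₀ ^ 2 - 2 * m₀ + 2) ≤ b ^ (s ^ (m₀ - 2) - 3))
    (h1 : c * (8 * m₀ + 2) ≤ (s - 1) * s ^ (m₀ - 2)) {m : ℕ} (hm : m₀ ≤ m) :
    128 * s ^ (4 * m ^ 2 - 2 * m + 2) ≤ b ^ (s ^ (m - 2) - 3) := by
  have key : 128 * s ^ (4 * m ^ 2 - 2 * m + 2) ≤ b ^ (s ^ (m - 2) - 3) ∧ c * (8 * m + 2) ≤ (s - 1) * s ^ (m - 2) := by
    induction m, hm using Nat.le_induction with
    | base => exact ⟨h0, h1⟩
    | succ m hm ih =>
      obtain ⟨ih1, ih2⟩ := ih
      have hm4 : 4 ≤ m := hm₀.trans hm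
      have e1 : m + 1 - 2 = (m - 2) + 1 := by omega
      have e2 : 4 * (m + 1) ^ 2 - 2 * (m + 1) + 2 = (4 * m ^ 2 - 2 * m + 2) + (8 * m + 2) := by
        zify [show 2 * (m + 1) ≤ 4 * (m + 1) ^ 2 by nlinarith only [hm₀, hm], show 2 * m ≤ 4 * m ^ 2 by nlinarith only [hm₀, hm]]
        ring
      have hpow : 3 ≤ s ^ (m - 2) := by
        calc 3 ≤ 2 ^ 2 := by norm_num
          _ ≤ s ^ 2 := Nat.pow_le_pow_left hs 2
          _ ≤ s ^ (m - 2) := Nat.pow_le_pow_right (by omega) (by omega)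
      rw [e1, e2]
      constructor
      · have e3 : s ^ (m - 2 + 1) - 3 = (s ^ (m - 2) - 3) + (s - 1) * s ^ (m - 2) := by
          rw [pow_succ]
          obtain ⟨t, rfl⟩ : ∃ t, s = t + 1 := ⟨s - 1, by omega⟩
          rw [Nat.add_sub_cancel]
          have : (t + 1) ^ (m - 2) * (t + 1) = t * (t + 1) ^ (m - 2) + (t + 1) ^ (m - 2) := by ring
          omega
        rw [e3, pow_add b, pow_add s (4 * m ^ 2 - 2 * m + 2)]
        calc 128 * (s ^ (4 * m ^ 2 - 2 * m + 2) * s ^ (8 * m + 2))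
            = (128 * s ^ (4 * m ^ 2 - 2 * m + 2)) * s ^ (8 * m + 2) := by ring
          _ ≤ b ^ (s ^ (m - 2) - 3) * b ^ ((s - 1) * s ^ (m - 2)) := by
            refine Nat.mul_le_mul ih1 ?_
            calc s ^ (8 * m + 2) ≤ (b ^ c) ^ (8 * m + 2) := Nat.pow_le_pow_left hsb _
              _ = b ^ (c * (8 * m + 2)) := by rw [← pow_mul]
              _ ≤ _ := Nat.pow_le_pow_right hb ih2
      · rw [pow_succ]
        calc c * (8 * (m + 1) + 2) ≤ c * (2 * (8 * m + 2)) := Nat.mul_le_mul_left _ (by omega)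
          _ = 2 * (c * (8 * m + 2)) := by ring
          _ ≤ 2 * ((s - 1) * s ^ (m - 2)) := Nat.mul_le_mul_left _ ih2
          _ ≤ s * ((s - 1) * s ^ (m - 2)) := Nat.mul_le_mul_right _ hs
          _ = _ := by ring
  exact key.1

/-- the size condition -/
theorem big {s m n b : ℕ} (hs : 2 ≤ s) (hm : 4 ≤ m) (hb : 2 ≤ b) (hb3 : Even s → 3 ≤ b)
    (h1 : s ^ (m - 2) - 1 ≤ n) (h3 : s ^ 3 - 1 ≤ n)
    (h : 7 ≤ s ∨ (s = 5 ∧ 6 ≤ m) ∨ (s = 4 ∧ 6 ≤ m) ∨ (s = 3 ∧ 8 ≤ m) ∨ (s = 2 ∧ 10 ≤ m)) :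
    128 * s ^ (4 * m ^ 2 - 2 * m + 2) ≤ b ^ (n - 2) := by
  have hup : s ^ (m - 2) - 3 ≤ n - 2 := by (clear * - h1 h; omega)
  rcases h with h7 | ⟨rfl, h6⟩ | ⟨rfl, h6⟩ | ⟨rfl, h6⟩ | ⟨rfl, h6⟩
  · have h5 : 128 * s ^ 92 ≤ 2 ^ (s ^ 3 - 3) := by
      have e1 : 46 * s + 10 ≤ s ^ 3 := by
        have : 49 * s ≤ s ^ 3 := by
          calc 49 * s = 7 ^ 2 * s := by norm_num
            _ ≤ s ^ 2 * s := Nat.mul_le_mul_right _ (Nat.pow_le_pow_left h7 2)
            _ = s ^ 3 := by ring
        omega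
      calc 128 * s ^ 92 = 2 ^ 7 * (s ^ 4) ^ 23 := by rw [← pow_mul]; norm_num
        _ ≤ 2 ^ 7 * (4 ^ s) ^ 23 := Nat.mul_le_mul_left _ (Nat.pow_le_pow_left (pow4 (by omega)) 23)
        _ = 2 ^ (46 * s + 7) := by
          rw [show (4 : ℕ) = 2 ^ 2 by norm_num, ← pow_mul, ← pow_mul, ← pow_add]
          congr 1
          ring
        _ ≤ _ := Nat.pow_le_pow_right (by norm_num) (by omega)
    rcases hm.eq_or_lt with rfl | hm5
    · calc 128 * s ^ (4 * 4 ^ 2 - 2 * 4 + 2) ≤ 128 * s ^ 92 :=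
          Nat.mul_le_mul_left _ (Nat.pow_le_pow_right (by omega) (by norm_num))
        _ ≤ 2 ^ (s ^ 3 - 3) := h5
        _ ≤ 2 ^ (n - 2) := Nat.pow_le_pow_right (by norm_num) (by omega)
        _ ≤ b ^ (n - 2) := Nat.pow_le_pow_left hb _
    · calc 128 * s ^ (4 * m ^ 2 - 2 * m + 2) ≤ 2 ^ (s ^ (m - 2) - 3) := by
            refine grow (m₀ := 5) (c := s) hs (by norm_num) Nat.lt_two_pow_self.le (by norm_num) h5 ?_ hm5
            norm_num
            have h8 : 49 * s ≤ s ^ 3 := by
              calc 49 * s = 7 ^ 2 * s := by norm_num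
                _ ≤ s ^ 2 * s := Nat.mul_le_mul_right _ (Nat.pow_le_pow_left h7 2)
                _ = s ^ 3 := by ring
            calc s * 42 ≤ 6 * (49 * s) := by omega
              _ ≤ (s - 1) * s ^ 3 := Nat.mul_le_mul (by omega) h8
        _ ≤ 2 ^ (n - 2) := Nat.pow_le_pow_right (by norm_num) (by omega)
        _ ≤ b ^ (n - 2) := Nat.pow_le_pow_left hb _
  · calc 128 * 5 ^ (4 * m ^ 2 - 2 * m + 2) ≤ 2 ^ (5 ^ (m - 2) - 3) :=
          grow (m₀ := 6) (c := 3) (by norm_num) (by norm_num) (by norm_num) (by norm_num) (by decide +kernel) (by norm_num) h6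
      _ ≤ 2 ^ (n - 2) := Nat.pow_le_pow_right (by norm_num) hup
      _ ≤ b ^ (n - 2) := Nat.pow_le_pow_left hb _
  · have hb' := hb3 (by decide)
    calc 128 * 4 ^ (4 * m ^ 2 - 2 * m + 2) ≤ 3 ^ (4 ^ (m - 2) - 3) :=
          grow (m₀ := 6) (c := 2) (by norm_num) (by norm_num) (by norm_num) (by norm_num) (by decide +kernel) (by norm_num) h6
      _ ≤ 3 ^ (n - 2) := Nat.pow_le_pow_right (by norm_num) hup
      _ ≤ b ^ (n - 2) := Nat.pow_le_pow_left hb' _
  · calc 128 * 3 ^ (4 * m ^ 2 - 2 * m + 2) ≤ 2 ^ (3 ^ (m - 2) - 3) :=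
          grow (m₀ := 8) (c := 2) (by norm_num) (by norm_num) (by norm_num) (by norm_num) (by decide +kernel) (by norm_num) h6
      _ ≤ 2 ^ (n - 2) := Nat.pow_le_pow_right (by norm_num) hup
      _ ≤ b ^ (n - 2) := Nat.pow_le_pow_left hb _
  · have hb' := hb3 (by decide)
    calc 128 * 2 ^ (4 * m ^ 2 - 2 * m + 2) ≤ 3 ^ (2 ^ (m - 2) - 3) :=
          grow (m₀ := 10) (c := 1) (by norm_num) (by norm_num) (by norm_num) (by norm_num) (by decide +kernel) (by norm_num) h6
      _ ≤ 3 ^ (n - 2) := Nat.pow_le_pow_right (by norm_num) hup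
      _ ≤ b ^ (n - 2) := Nat.pow_le_pow_left hb' _

end Cfsg.Agent.H79.HT.P
end
end
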