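import Cfsg.Agent.S2119
import Cfsg.Agent.S0813
import Cfsg.Agent.LFourA.AltPsiAut
import Cfsg.Agent.ClassicalGeometry.PSL2Basic
import Cfsg.Agent.H912.CrossList_m3
import Cfsg.Agent.Lib.PermCode
import Cfsg.Agent.FastGrp
import Cfsg.Agent.Prune
set_option linter.all false
prune_inst 0x7f00000000000000000000000000000000000000000000000000000000000000000000000000000000000000000000000000000000000000000000000000000000000000000000000000000000000000003fffffffffffffffffffffffffffbeffbdffffffff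
open scoped Cfsg.Agent.FastGrp

/-!
# S3540, degree 4: facts on `A₅`, `A₆`, `A₇`, `L₂(7)` (helper392, for helper48)
-/

set_option autoImplicit false
set_option linter.unusedSectionVars false

universe u

namespace Cfsg.Agent.H392.HT

open Equiv Equiv.Perm Subgroup
open scoped Pointwise

section general

variable {S : Type u} [Group S]

theorem card_sub_mul_le [Finite S] {r : ℕ} (hr : r.Prime) :
    Nat.card {R : Subgroup S // Nat.card R = r} * (r - 1) ≤ Nat.card {s : S // s ^ r = 1 ∧ s ≠ 1} := by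
  classical
  have := Fintype.ofFinite S
  have : Fintype {R : Subgroup S // Nat.card R = r} := Fintype.ofFinite _
  let f : (Σ R : {R : Subgroup S // Nat.card R = r}, {x : R.1 // x ≠ 1}) → {s : S // s ^ r = 1 ∧ s ≠ 1} := fun a =>
    ⟨(a.2.1 : S), by
      have h := pow_card_eq_one' (x := a.2.1)
      rw [a.1.2] at h
      exact ⟨by rw [← Subgroup.coe_pow, h]; rfl, fun h1 => a.2.2 (Subtype.ext h1)⟩⟩
  have hz : ∀ (R : {R : Subgroup S // Nat.card R = r}) (x : {x : R.1 // x ≠ 1}), zpowers (x.1 : S) = R.1 := by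
    intro R x
    have := Fact.mk hr
    refine Subgroup.eq_of_le_of_card_ge ?_ ?_
    · rw [zpowers_le]
      exact x.1.2
    · rw [R.2, Nat.card_zpowers]
      have h := pow_card_eq_one' (x := x.1)
      rw [R.2] at h
      have h2 : (x.1 : S) ^ r = 1 := by rw [← Subgroup.coe_pow, h]; rfl
      rw [orderOf_eq_prime h2 (fun h1 => x.2 (Subtype.ext h1))]
  have hf : Function.Injective f := by
    rintro ⟨R, x⟩ ⟨R', x'⟩ h
    have h1 : (x.1 : S) = x'.1 := congrArg Subtype.val h
    have h2 : R = R' := Subtype.ext (by rw [← hz R x, ← hz R' x', h1])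
    subst h2
    congr 1
    exact Subtype.ext (Subtype.ext h1)
  have h1 := Nat.card_le_card_of_injective f hf
  rw [Nat.card_sigma] at h1
  refine le_trans (le_of_eq ?_) h1
  have h2 : ∀ R : {R : Subgroup S // Nat.card R = r}, Nat.card {x : R.1 // x ≠ 1} = r - 1 := by
    intro R
    have h3 : Nat.card {x : R.1 // x ≠ 1} = Nat.card R.1 - 1 := by
      rw [Nat.card_eq_fintype_card, Nat.card_eq_fintype_card, Fintype.card_subtype_compl,
        Fintype.card_subtype_eq]
    rw [h3, R.2]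
  rw [Finset.sum_congr rfl (fun R _ => h2 R), Finset.sum_const, Finset.card_univ, smul_eq_mul,
    Nat.card_eq_fintype_card]

/-- the subgroups of order `r`, `r ∥ |S|` -/
theorem card_sub_le [Finite S] {r k d : ℕ} (hr : r.Prime) (hk : Nat.card S = r * k) (hrk : ¬ r ∣ k) {u : S}
    (hu : orderOf u = r) (hd : d ∣ Nat.card (normalizer (zpowers u : Set S))) :
    Nat.card {R : Subgroup S // Nat.card R = r} * d ≤ Nat.card S := by
  classical
  have := Fact.mk hr
  have hk0 : k ≠ 0 := by rintro rfl; exact hrk (dvd_zero _)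
  have hf : (Nat.card S).factorization r = 1 := by
    rw [hk, Nat.factorization_mul hr.ne_zero hk0, Finsupp.add_apply, hr.factorization_self,
      Nat.factorization_eq_zero_of_not_dvd hrk]
  have hcard : ∀ P : Sylow r S, Nat.card P = r := fun P => by rw [P.card_eq_multiplicity, hf, pow_one]
  let e : {R : Subgroup S // Nat.card R = r} ≃ Sylow r S :=
    { toFun := fun R => Sylow.ofCard R.1 (by rw [R.2, hf, pow_one])
      invFun := fun P => ⟨P, hcard P⟩
      left_inv := fun R => rfl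
      right_inv := fun P => Sylow.ext rfl }
  have hu' : Nat.card (zpowers u) = r := by rw [Nat.card_zpowers, hu]
  have h1 : Nat.card (Sylow r S) = (normalizer (zpowers u : Set S)).index :=
    Sylow.card_eq_index_normalizer (e ⟨zpowers u, hu'⟩)
  rw [Nat.card_congr e, h1]
  have h2 := Subgroup.card_mul_index (normalizer (zpowers u : Set S))
  have h3 : d ≤ Nat.card (normalizer (zpowers u : Set S)) := Nat.le_of_dvd Nat.card_pos hd
  rw [← h2, mul_comm]
  exact Nat.mul_le_mul_right _ h3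

theorem conj_pow_mul {s t : S} (h : t * s * t⁻¹ = s ^ 2) (i : ℕ) : t * s ^ i * t⁻¹ = s ^ (2 * i) := by
  rw [← MulAut.conj_apply, map_pow, MulAut.conj_apply, h, ← pow_mul]

theorem mem_norm {s t : S} (h : ∃ i : ℕ, t * s * t⁻¹ = s ^ i) [Finite S] : t ∈ normalizer (zpowers s : Set S) := by
  obtain ⟨i, hi⟩ := h
  have h1 : (zpowers s).map (MulAut.conj t).toMonoidHom ≤ zpowers s := by
    rw [MonoidHom.map_zpowers, zpowers_le]
    change t * s * t⁻¹ ∈ _
    rw [hi]
    exact pow_mem (mem_zpowers s) i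
  have h2 : (zpowers s).map (MulAut.conj t).toMonoidHom = zpowers s := by
    refine Subgroup.eq_of_le_of_card_ge h1 (le_of_eq ?_)
    exact Nat.card_congr ((zpowers s).equivMapOfInjective _ (MulAut.conj t).injective).toEquiv
  rw [mem_normalizer_iff]
  intro x
  constructor
  · intro hx
    exact h1 ⟨x, hx, rfl⟩
  · intro hx
    rw [← h2] at hx
    obtain ⟨y, hy, hyx⟩ := hx
    have : y = x := (MulAut.conj t).injective hyx
    rwa [← this]

/-- elements of order `7` (`r`), `r ∥ |S|`, one of them conjugate to its square by an element of order `3` -/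
theorem conj_sq [Finite S] {r k : ℕ} (hr : r.Prime) (hk : Nat.card S = r * k) (hrk : ¬ r ∣ k) {u t : S}
    (hu : orderOf u = r) (ht : t ^ 3 = 1) (htu : t * u * t⁻¹ = u ^ 2) {s : S} (hs : s ^ r = 1) (hs1 : s ≠ 1) :
    ∃ t : S, t ^ 3 = 1 ∧ t * s * t⁻¹ = s ^ 2 := by
  classical
  have := Fact.mk hr
  have hk0 : k ≠ 0 := by rintro rfl; exact hrk (dvd_zero _)
  have hf : (Nat.card S).factorization r = 1 := by
    rw [hk, Nat.factorization_mul hr.ne_zero hk0, Finsupp.add_apply, hr.factorization_self,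
      Nat.factorization_eq_zero_of_not_dvd hrk]
  have hs2 : orderOf s = r := orderOf_eq_prime hs hs1
  let P : Sylow r S := Sylow.ofCard (zpowers u) (by rw [Nat.card_zpowers, hu, hf, pow_one])
  let Q : Sylow r S := Sylow.ofCard (zpowers s) (by rw [Nat.card_zpowers, hs2, hf, pow_one])
  obtain ⟨g, hg⟩ := MulAction.exists_smul_eq S P Q
  have h0 : ((g • P : Sylow r S) : Subgroup S) = MulAut.conj g • (P : Subgroup S) := rfl
  have h1 : s ∈ MulAut.conj g • (zpowers u) := by
    change s ∈ MulAut.conj g • (P : Subgroup S)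
    rw [← h0, hg]
    exact mem_zpowers s
  obtain ⟨y, hy, hys⟩ := h1
  obtain ⟨i, hi⟩ := (isOfFinOrder_of_finite u).mem_zpowers_iff_mem_range_orderOf.1 hy |> Finset.mem_image.1
  obtain ⟨-, hi⟩ := hi
  have hy1 : s = g * u ^ i * g⁻¹ := by rw [← hys, ← hi]; rfl
  refine ⟨g * t * g⁻¹, by rw [conj_pow, ht, mul_one, mul_inv_cancel], ?_⟩
  rw [hy1, conj_pow, ← pow_mul, mul_comm i 2, ← conj_pow_mul htu i]
  group

end general

/-- elements of the alternating group -/
def ag {m : ℕ} (σ : Perm (Fin m)) (h : sign σ = 1) : alternatingGroup (Fin m) := ⟨σ, h⟩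

/-! ### the numbers -/

section numbers

variable {S : Type u} [Group S]

theorem card_alt {m : ℕ} (hm : 2 ≤ m) (e : S ≃* alternatingGroup (Fin m)) : Nat.card S * 2 = m.factorial := by
  have : Nontrivial (Fin m) := Fin.nontrivial_iff_two_le.2 hm
  rw [Nat.card_congr e.toEquiv, mul_comm, nat_card_alternatingGroup, Nat.card_fin]
  exact Nat.mul_div_cancel' (Nat.dvd_factorial (by norm_num) hm)

theorem card_A5 (e : S ≃* alternatingGroup (Fin 5)) : Nat.card S = 60 := by
  have := card_alt (by norm_num) e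
  have h : Nat.factorial 5 = 120 := rfl
  omega

theorem card_A6 (e : S ≃* alternatingGroup (Fin 6)) : Nat.card S = 360 := by
  have := card_alt (by norm_num) e
  have h : Nat.factorial 6 = 720 := rfl
  omega

theorem card_A7 (e : S ≃* alternatingGroup (Fin 7)) : Nat.card S = 2520 := by
  have := card_alt (by norm_num) e
  have h : Nat.factorial 7 = 5040 := rfl
  omega

theorem card_L27 (hS : H912.Bd.IsL 2 7 S) : Nat.card S = 168 := by
  obtain ⟨K, _, _, hK, ⟨e⟩⟩ := hS
  have h := ClassicalGeometry.PSL2Basic.card_PSL2_gcd (F := K)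
  rw [hK] at h
  rw [Nat.card_congr e.toEquiv]
  have h2 : Nat.gcd 2 (7 - 1) = 2 := rfl
  rw [h2] at h
  omega

theorem card_mulAut_alt {m : ℕ} (hm : 4 ≤ m) (h6 : m ≠ 6) (e : S ≃* alternatingGroup (Fin m)) :
    Nat.card (MulAut S) = m.factorial := by
  rw [Nat.card_congr (MulAut.congr e).toEquiv,
    ← Nat.card_congr (Equiv.ofBijective _ (S2119.result m hm h6)), Nat.card_perm, Nat.card_fin]

theorem out_A5 (e : S ≃* alternatingGroup (Fin 5)) : ¬ 3 ∣ Nat.card (MulAut S) / Nat.card S := by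
  rw [card_mulAut_alt (by norm_num) (by norm_num) e, card_A5 e]
  decide

theorem out_A7 (e : S ≃* alternatingGroup (Fin 7)) : ¬ 7 ∣ Nat.card (MulAut S) / Nat.card S := by
  rw [card_mulAut_alt (by norm_num) (by norm_num) e, card_A7 e]
  decide

theorem out_L27 (hS : H912.Bd.IsL 2 7 S) : ¬ 7 ∣ Nat.card (MulAut S) / Nat.card S := by
  rw [card_L27 hS]
  obtain ⟨K, _, _, hK, ⟨e⟩⟩ := hS
  have : Fact (Nat.Prime 7) := ⟨by norm_num⟩
  have h : Nat.card (MulAut S) = 336 := by
    rw [Nat.card_congr (MulAut.congr e).toEquiv, S0813.result 7 1 le_rfl (by rw [hK]; rfl) 2 le_rfl (fun _ => by norm_num),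
      if_pos rfl, one_mul, ClassicalGeometry.PSL2Basic.card_PGL2, hK]
    rfl
  rw [h]
  decide

open Cfsg.Agent.LFourA.AltPsiAut in
theorem card_mulAut_A6_dvd : Nat.card (MulAut (alternatingGroup (Fin 6))) ∣ 1440 := by
  classical
  have hfin : Finite (MulAut (alternatingGroup (Fin 6))) :=
    Finite.of_injective (fun σ => (σ : alternatingGroup (Fin 6) → alternatingGroup (Fin 6))) DFunLike.coe_injective
  have h1 : Nat.card NE ∣ 720 := by
    have h2 : NE ≤ (MulAut.conjNormal : Equiv.Perm (Fin 6) →* MulAut (alternatingGroup (Fin 6))).range := by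
      intro a ha
      obtain ⟨σ, hσ⟩ := exists_perm ha
      refine ⟨σ, ?_⟩
      refine MulEquiv.ext fun x => Subtype.ext ?_
      rw [MulAut.conjNormal_apply, hσ]
    have h3 := (Subgroup.card_dvd_of_le h2).trans (Subgroup.card_range_dvd _)
    rw [Nat.card_perm, Nat.card_fin] at h3
    exact h3
  have h2 : NE.index ∣ 2 := by
    by_cases h : ∃ β : MulAut (alternatingGroup (Fin 6)), β ∉ NE
    · obtain ⟨β, hβ⟩ := h
      have h3 : NE.index = 2 := by
        rw [Subgroup.index_eq_two_iff_exists_notMem_and]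
        refine ⟨β, hβ, fun b => ?_⟩
        by_cases hb : b ∈ NE
        · right; exact hb
        · left
          have h4 := inv_mul_mem (α := b⁻¹) (fun h => hb (by have := NE.inv_mem h; rwa [inv_inv] at this)) hβ
          rwa [inv_inv] at h4
      rw [h3]
    · push Not at h
      rw [Subgroup.index_eq_one.2 (eq_top_iff.2 fun x _ => h x)]
      exact one_dvd _
  rw [← Subgroup.card_mul_index NE]
  exact Nat.mul_dvd_mul h1 h2

theorem out_A6 (e : S ≃* alternatingGroup (Fin 6)) : ¬ 3 ∣ Nat.card (MulAut S) / Nat.card S := by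
  have h1 : Nat.card (MulAut S) ∣ 1440 := by
    rw [Nat.card_congr (MulAut.congr e).toEquiv]; exact card_mulAut_A6_dvd
  have hinj : Function.Injective (MulAut.conj : alternatingGroup (Fin 6) →* MulAut (alternatingGroup (Fin 6))) := by
    have := alternatingGroup.isSimpleGroup (α := Fin 6) (by simp)
    rw [← MonoidHom.ker_eq_bot_iff]
    refine (Subgroup.Normal.eq_bot_or_eq_top inferInstance).resolve_right fun htop => ?_
    have h2 : ag (m := 6) c[(0 : Fin 6), 1, 2] (by decide) ∈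
        (MulAut.conj : alternatingGroup (Fin 6) →* MulAut (alternatingGroup (Fin 6))).ker := by
      rw [htop]; trivial
    have h3 := DFunLike.congr_fun (MonoidHom.mem_ker.1 h2) (ag (m := 6) c[(0 : Fin 6), 1, 3] (by decide))
    have h4 : (c[(0 : Fin 6), 1, 2] * c[(0 : Fin 6), 1, 3] * (c[(0 : Fin 6), 1, 2])⁻¹ : Perm (Fin 6)) = c[(0 : Fin 6), 1, 3] := congrArg (Subtype.val) h3
    revert h4
    decide
  have h2 : 360 ∣ Nat.card (MulAut S) := by
    have h3 := Subgroup.card_dvd_of_injective _ hinj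
    rwa [card_A6 (MulEquiv.refl _), ← Nat.card_congr (MulAut.congr e).toEquiv] at h3
  rw [card_A6 e]
  intro h
  obtain ⟨k, hk⟩ := h2
  rw [hk, Nat.mul_div_cancel_left _ (by norm_num)] at h
  rw [hk] at h1
  have h3 : k ∣ 4 := by
    have : (360 : ℕ) * k ∣ 360 * 4 := h1
    exact Nat.dvd_of_mul_dvd_mul_left (by norm_num) this
  have := h.trans h3
  revert this
  decide

end numbers

/-! ### permutations -/

theorem perm5 : ∀ s : Perm (Fin 5), s ^ 3 = 1 → ∃ a b c d : Fin 5, a ≠ b ∧ c ≠ d ∧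
    (swap a b * swap c d) * s * (swap a b * swap c d)⁻¹ = s⁻¹ := by (simp only [↓Cfsg.Agent.PermCode.M, Cfsg.Agent.PermCode.P5.R, Cfsg.Agent.PermCode.B]; decide +kernel)

theorem perm6 : ∀ s : Perm (Fin 6), s ^ 3 = 1 → ∃ a b c d : Fin 6, a ≠ b ∧ c ≠ d ∧
    (swap a b * swap c d) * s * (swap a b * swap c d)⁻¹ = s⁻¹ := by (simp only [↓Cfsg.Agent.PermCode.M, Cfsg.Agent.PermCode.P6.R, Cfsg.Agent.PermCode.B]; decide +kernel)

theorem count6 : (Finset.univ.filter (fun s : Perm (Fin 6) => s ^ 3 = 1)).card = 81 := by (simp only [↓Cfsg.Agent.PermCode.M, Cfsg.Agent.PermCode.P6.R, Cfsg.Agent.PermCode.B]; decide +kernel)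

section facts

variable {S : Type u} [Group S]

/-- `3`-elements are inverted -/
theorem inv_A5 (e : S ≃* alternatingGroup (Fin 5)) (s : S) (hs : s ^ 3 = 1) : ∃ t : S, t * s * t⁻¹ = s⁻¹ := by
  obtain ⟨a, b, c, d, hab, hcd, h⟩ := perm5 (e s : Perm (Fin 5)) (by
    rw [← Subgroup.coe_pow, ← map_pow, hs, map_one]; rfl)
  refine ⟨e.symm ⟨swap a b * swap c d, ?_⟩, ?_⟩
  · rw [mem_alternatingGroup, map_mul, sign_swap hab, sign_swap hcd]; rfl
  · apply e.injective
    apply Subtype.ext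
    rw [map_mul, map_mul, map_inv, map_inv, e.apply_symm_apply]
    exact h

theorem inv_A6 (e : S ≃* alternatingGroup (Fin 6)) (s : S) (hs : s ^ 3 = 1) : ∃ t : S, t * s * t⁻¹ = s⁻¹ := by
  obtain ⟨a, b, c, d, hab, hcd, h⟩ := perm6 (e s : Perm (Fin 6)) (by
    rw [← Subgroup.coe_pow, ← map_pow, hs, map_one]; rfl)
  refine ⟨e.symm ⟨swap a b * swap c d, ?_⟩, ?_⟩
  · rw [mem_alternatingGroup, map_mul, sign_swap hab, sign_swap hcd]; rfl
  · apply e.injective
    apply Subtype.ext
    rw [map_mul, map_mul, map_inv, map_inv, e.apply_symm_apply]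
    exact h

theorem card_three_le {m : ℕ} (e : S ≃* alternatingGroup (Fin m)) {N : ℕ}
    (hN : (Finset.univ.filter (fun s : Perm (Fin m) => s ^ 3 = 1)).card = N + 1) :
    Nat.card {s : S // s ^ 3 = 1 ∧ s ≠ 1} ≤ N := by
  classical
  have h1 : Nat.card {s : Perm (Fin m) // s ^ 3 = 1 ∧ s ≠ 1} = N := by
    rw [Nat.card_eq_fintype_card, Fintype.card_subtype]
    have h2 : (Finset.univ.filter (fun s : Perm (Fin m) => s ^ 3 = 1 ∧ s ≠ 1)) =
        (Finset.univ.filter (fun s : Perm (Fin m) => s ^ 3 = 1)).erase 1 := by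
      ext s
      simp [and_comm]
    rw [h2, Finset.card_erase_of_mem (by simp), hN]
    rfl
  rw [← h1]
  refine Nat.card_le_card_of_injective (fun s => ⟨(e s.1 : Perm (Fin m)), ?_, ?_⟩) ?_
  · rw [← Subgroup.coe_pow, ← map_pow, s.2.1, map_one]; rfl
  · intro h
    exact s.2.2 (e.injective (Subtype.ext (by rw [h, map_one]; rfl)))
  · intro s t h
    have h2 : (e s.1 : Perm (Fin m)) = e t.1 := by
      have h3 := congrArg (fun x : {s : Perm (Fin m) // s ^ 3 = 1 ∧ s ≠ 1} => (x : Perm (Fin m))) h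
      exact h3
    exact Subtype.ext (e.injective (Subtype.ext h2))

theorem count5 : (Finset.univ.filter (fun s : Perm (Fin 5) => s ^ 3 = 1)).card = 21 := by (simp only [↓Cfsg.Agent.PermCode.M, Cfsg.Agent.PermCode.P5.R, Cfsg.Agent.PermCode.B]; decide +kernel)

theorem finite_of {m : ℕ} (e : S ≃* alternatingGroup (Fin m)) : Finite S := Finite.of_equiv _ e.symm.toEquiv

theorem sub_A5 (e : S ≃* alternatingGroup (Fin 5)) : Nat.card {R : Subgroup S // Nat.card R = 3} ≤ 10 := by
  have := finite_of e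
  have h1 := card_sub_mul_le (S := S) Nat.prime_three
  have h2 := card_three_le e (N := 20) count5
  omega

theorem sub_A6 (e : S ≃* alternatingGroup (Fin 6)) : Nat.card {R : Subgroup S // Nat.card R = 3} ≤ 40 := by
  have := finite_of e
  have h1 := card_sub_mul_le (S := S) Nat.prime_three
  have h2 := card_three_le e (N := 80) count6
  omega

theorem sub_seven [Finite S] {k : ℕ} (hk : Nat.card S = 7 * k) (hrk : ¬ 7 ∣ k) {v t : S} (hu : orderOf v = 7)
    (ht : t ^ 3 = 1) (htu : t * v * t⁻¹ = v ^ 2) : Nat.card {R : Subgroup S // Nat.card R = 7} * 21 ≤ Nat.card S := by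
  refine card_sub_le (by norm_num) hk hrk hu ?_
  have h1 : t ∈ normalizer (zpowers v : Set S) := mem_norm ⟨2, htu⟩
  have h2 : v ∈ normalizer (zpowers v : Set S) := le_normalizer (mem_zpowers v)
  have h3 : 3 ∣ Nat.card (normalizer (zpowers v : Set S)) := by
    have h4 : orderOf t = 3 := by
      refine orderOf_eq_prime ht fun h5 => ?_
      rw [h5, one_mul, inv_one, mul_one] at htu
      have h6 : v = 1 := by
        have : v * 1 = v * v := by rw [mul_one, ← pow_two, ← htu]
        exact (mul_left_cancel this).symm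
      rw [h6, orderOf_one] at hu
      omega
    rw [← h4, ← Subgroup.orderOf_mk _ h1]
    exact orderOf_dvd_natCard _
  have h4 : 7 ∣ Nat.card (normalizer (zpowers v : Set S)) := by
    rw [← hu, ← Subgroup.orderOf_mk _ h2]
    exact orderOf_dvd_natCard _
  have : Nat.Coprime 3 7 := by norm_num
  exact this.mul_dvd_of_dvd_of_dvd h3 h4

/-- the multiplication by `2` on `ℤ/7` -/
def dbl : Perm (Fin 7) := c[(1 : Fin 7), 2, 4] * c[(3 : Fin 7), 6, 5]

theorem rot7 : finRotate 7 ^ 7 = 1 := by decide +kernel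
theorem rot7' : finRotate 7 ≠ 1 := by decide +kernel
theorem dbl3 : dbl ^ 3 = 1 := by decide +kernel
theorem dblrot : dbl * finRotate 7 * dbl⁻¹ = finRotate 7 ^ 2 := by decide +kernel

theorem pair_A7 (e : S ≃* alternatingGroup (Fin 7)) :
    ∃ v t : S, orderOf v = 7 ∧ t ^ 3 = 1 ∧ t * v * t⁻¹ = v ^ 2 := by
  have : Fact (Nat.Prime 7) := ⟨by norm_num⟩
  refine ⟨e.symm (ag (finRotate 7) (by decide)), e.symm (ag dbl (by decide)), ?_, ?_, ?_⟩
  · refine orderOf_eq_prime ?_ ?_
    · rw [← map_pow]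
      have : (ag (m := 7) (finRotate 7) (by decide)) ^ 7 = 1 := Subtype.ext rot7
      rw [this, map_one]
    · intro h
      have h1 : ag (m := 7) (finRotate 7) (by decide) = 1 := by
        rw [MulEquiv.symm_apply_eq, map_one] at h
        exact h
      have h2 : finRotate 7 = 1 := congrArg Subtype.val h1
      exact rot7' h2
  · rw [← map_pow]
    have : (ag (m := 7) dbl (by decide)) ^ 3 = 1 := Subtype.ext dbl3
    rw [this, map_one]
  · have h : ag (m := 7) dbl (by decide) * ag (m := 7) (finRotate 7) (by decide) * (ag (m := 7) dbl (by decide))⁻¹ =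
        ag (m := 7) (finRotate 7) (by decide) ^ 2 := Subtype.ext dblrot
    rw [← map_inv, ← map_mul, ← map_mul, ← map_pow, h]

theorem card_A7' (e : S ≃* alternatingGroup (Fin 7)) : Nat.card S = 7 * 360 := card_A7 e

theorem sq_A7 (e : S ≃* alternatingGroup (Fin 7)) (s : S) (hs : s ^ 7 = 1) (hs1 : s ≠ 1) :
    ∃ t : S, t ^ 3 = 1 ∧ t * s * t⁻¹ = s ^ 2 := by
  have := finite_of e
  obtain ⟨v, t, hv, ht, htv⟩ := pair_A7 e
  exact conj_sq (by norm_num) (card_A7' e) (by norm_num) hv ht htv hs hs1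

theorem sub_A7 (e : S ≃* alternatingGroup (Fin 7)) : Nat.card {R : Subgroup S // Nat.card R = 7} ≤ 120 := by
  have := finite_of e
  obtain ⟨v, t, hv, ht, htv⟩ := pair_A7 e
  have h := sub_seven (card_A7' e) (by norm_num) hv ht htv
  rw [card_A7 e] at h
  omega

/-- the upper unitriangular matrix -/
def vm (K : Type*) [Field K] : Matrix.SpecialLinearGroup (Fin 2) K := ⟨!![1, 1; 0, 1], by simp [Matrix.det_fin_two]⟩

theorem pair_L27 (hS : H912.Bd.IsL 2 7 S) : ∃ v t : S, orderOf v = 7 ∧ t ^ 3 = 1 ∧ t * v * t⁻¹ = v ^ 2 := by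
  obtain ⟨K, _, _, hK, ⟨e⟩⟩ := hS
  have : Fact (Nat.Prime 7) := ⟨by norm_num⟩
  have h7 : (7 : K) = 0 := by
    have h := FiniteField.cast_card_eq_zero K
    rw [hK] at h
    exact_mod_cast h
  have h1 : (1 : K) ≠ 0 := one_ne_zero
  let v : Matrix.SpecialLinearGroup (Fin 2) K := vm K
  let t : Matrix.SpecialLinearGroup (Fin 2) K := ⟨!![4, 0; 0, 2], by
    rw [Matrix.det_fin_two_of]; linear_combination h7⟩
  have hvk : ∀ k : ℕ, ((v ^ k : Matrix.SpecialLinearGroup (Fin 2) K) : Matrix (Fin 2) (Fin 2) K) = !![1, (k : K); 0, 1] := by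
    intro k
    induction k with
    | zero => ext i j; fin_cases i <;> fin_cases j <;> simp
    | succ k ih =>
      rw [pow_succ, Matrix.SpecialLinearGroup.coe_mul, ih]
      change !![1, (k : K); 0, 1] * !![1, 1; 0, 1] = _
      ext i j
      fin_cases i <;> fin_cases j <;> simp [Matrix.mul_apply, Fin.sum_univ_two]
      ring
  have hvt : t * v = v ^ 2 * t := by
    apply Subtype.ext
    rw [Matrix.SpecialLinearGroup.coe_mul, Matrix.SpecialLinearGroup.coe_mul, hvk]
    change !![4, 0; 0, 2] * !![1, 1; 0, 1] = !![1, ((2 : ℕ) : K); 0, 1] * !![4, 0; 0, 2]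
    ext i j
    fin_cases i <;> fin_cases j <;> simp [Matrix.mul_apply, Fin.sum_univ_two]
    norm_num
  have hv7 : v ^ 7 = 1 := by
    apply Subtype.ext
    rw [hvk]
    ext i j
    fin_cases i <;> fin_cases j <;> simp [h7]
  have ht3 : t ^ 3 = 1 := by
    apply Subtype.ext
    rw [pow_succ, pow_two, Matrix.SpecialLinearGroup.coe_mul, Matrix.SpecialLinearGroup.coe_mul]
    change !![4, 0; 0, 2] * !![4, 0; 0, 2] * !![4, 0; 0, 2] = (1 : Matrix (Fin 2) (Fin 2) K)
    ext i j
    fin_cases i <;> fin_cases j <;> simp [Matrix.mul_apply, Fin.sum_univ_two]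
    · linear_combination 9 * h7
    · linear_combination h7
  let π : Matrix.SpecialLinearGroup (Fin 2) K →* Matrix.ProjectiveSpecialLinearGroup (Fin 2) K := QuotientGroup.mk' _
  have hπ : π v ≠ 1 := by
    intro h
    have h2 : v ∈ Subgroup.center (Matrix.SpecialLinearGroup (Fin 2) K) := (QuotientGroup.eq_one_iff v).1 h
    let w : Matrix.SpecialLinearGroup (Fin 2) K := ⟨!![1, 0; 1, 1], by simp [Matrix.det_fin_two]⟩
    have h3 := Subgroup.mem_center_iff.1 h2 w
    have h4 := congrArg (fun x : Matrix.SpecialLinearGroup (Fin 2) K => (x : Matrix (Fin 2) (Fin 2) K) 0 0) h3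
    simp only [Matrix.SpecialLinearGroup.coe_mul] at h4
    change (!![1, 0; 1, 1] * !![1, 1; 0, 1] : Matrix (Fin 2) (Fin 2) K) 0 0 =
      (!![1, 1; 0, 1] * !![1, 0; 1, 1] : Matrix (Fin 2) (Fin 2) K) 0 0 at h4
    simp [Matrix.mul_apply, Fin.sum_univ_two] at h4
  refine ⟨e.symm (π v), e.symm (π t), ?_, ?_, ?_⟩
  · refine orderOf_eq_prime ?_ ?_
    · rw [← map_pow, ← map_pow, hv7, map_one, map_one]
    · intro h
      rw [MulEquiv.symm_apply_eq, map_one] at h
      exact hπ h
  · rw [← map_pow, ← map_pow, ht3, map_one, map_one]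
  · rw [← map_inv, ← map_mul, ← map_mul, ← map_pow, ← map_inv, ← map_mul, ← map_mul, ← map_pow, hvt,
      mul_inv_cancel_right]

theorem card_L27' (hS : H912.Bd.IsL 2 7 S) : Nat.card S = 7 * 24 := card_L27 hS

theorem finite_L27 (hS : H912.Bd.IsL 2 7 S) : Finite S := Nat.finite_of_card_ne_zero (by rw [card_L27 hS]; norm_num)

theorem sq_L27 (hS : H912.Bd.IsL 2 7 S) (s : S) (hs : s ^ 7 = 1) (hs1 : s ≠ 1) :
    ∃ t : S, t ^ 3 = 1 ∧ t * s * t⁻¹ = s ^ 2 := by
  have := finite_L27 hS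
  obtain ⟨v, t, hv, ht, htv⟩ := pair_L27 hS
  exact conj_sq (by norm_num) (card_L27' hS) (by norm_num) hv ht htv hs hs1

theorem sub_L27 (hS : H912.Bd.IsL 2 7 S) : Nat.card {R : Subgroup S // Nat.card R = 7} ≤ 8 := by
  have := finite_L27 hS
  obtain ⟨v, t, hv, ht, htv⟩ := pair_L27 hS
  have h := sub_seven (card_L27' hS) (by norm_num) hv ht htv
  rw [card_L27 hS] at h
  omega

theorem p5 : (c[(0 : Fin 5), 1] * c[(2 : Fin 5), 3] * c[(0 : Fin 5), 2, 4] : Perm (Fin 5)) ^ 5 = 1 := by decide +kernel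

theorem gen_A5 (e : S ≃* alternatingGroup (Fin 5)) :
    ∃ a b : S, a ^ 2 = 1 ∧ b ^ 3 = 1 ∧ b ≠ 1 ∧ Subgroup.closure {a, b} = ⊤ := by
  have := finite_of e
  have := Fact.mk Nat.prime_two
  have := Fact.mk Nat.prime_three
  have := Fact.mk Nat.prime_five
  have hs : IsSimpleGroup S := by
    have := alternatingGroup.isSimpleGroup (α := Fin 5) (by simp)
    exact e.isSimpleGroup
  let a₀ : alternatingGroup (Fin 5) := ag (c[(0 : Fin 5), 1] * c[(2 : Fin 5), 3]) (by decide)
  let b₀ : alternatingGroup (Fin 5) := ag c[(0 : Fin 5), 2, 4] (by decide)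
  have ha2 : a₀ ^ 2 = 1 := Subtype.ext (show (c[(0 : Fin 5), 1] * c[(2 : Fin 5), 3] : Perm (Fin 5)) ^ 2 = 1 by decide)
  have hb3 : b₀ ^ 3 = 1 := Subtype.ext (show (c[(0 : Fin 5), 2, 4] : Perm (Fin 5)) ^ 3 = 1 by decide)
  have hab : (a₀ * b₀) ^ 5 = 1 := by
    apply Subtype.ext
    rw [Subgroup.coe_pow, Subgroup.coe_mul]
    exact p5
  have ha1 : a₀ ≠ 1 := fun h => by
    have h2 : (c[(0 : Fin 5), 1] * c[(2 : Fin 5), 3] : Perm (Fin 5)) = 1 := congrArg Subtype.val h
    revert h2; decide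
  have hb1 : b₀ ≠ 1 := fun h => by
    have h2 : (c[(0 : Fin 5), 2, 4] : Perm (Fin 5)) = 1 := congrArg Subtype.val h
    revert h2; decide
  have hab1 : a₀ * b₀ ≠ 1 := fun h => by
    have h2 : (c[(0 : Fin 5), 1] * c[(2 : Fin 5), 3] * c[(0 : Fin 5), 2, 4] : Perm (Fin 5)) = 1 := congrArg Subtype.val h
    revert h2; decide
  have key : ∀ (x : alternatingGroup (Fin 5)) (r : ℕ), r.Prime → x ^ r = 1 → x ≠ 1 → orderOf (e.symm x) = r := by
    intro x r hr h1 h2
    have := Fact.mk hr
    refine orderOf_eq_prime (by rw [← map_pow, h1, map_one]) fun h => h2 ?_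
    rwa [MulEquiv.symm_apply_eq, map_one] at h
  refine ⟨e.symm a₀, e.symm b₀, by rw [← map_pow, ha2, map_one], by rw [← map_pow, hb3, map_one], fun h => hb1 (by
    rwa [MulEquiv.symm_apply_eq, map_one] at h), ?_⟩
  generalize hH : Subgroup.closure {e.symm a₀, e.symm b₀} = H
  have hsub : ({e.symm a₀, e.symm b₀} : Set S) ⊆ H := by rw [← hH]; exact Subgroup.subset_closure
  have hma : e.symm a₀ ∈ H := hsub (Or.inl rfl)
  have hmb : e.symm b₀ ∈ H := hsub (Or.inr rfl)
  have hmc : e.symm (a₀ * b₀) ∈ H := by rw [map_mul]; exact mul_mem hma hmb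
  have hd : ∀ (x : S) (r : ℕ), x ∈ H → orderOf x = r → r ∣ Nat.card H := by
    intro x r hx hr
    rw [← hr, ← Subgroup.orderOf_mk _ hx]
    exact orderOf_dvd_natCard _
  have h2 := hd _ _ hma (key _ _ Nat.prime_two ha2 ha1)
  have h3 := hd _ _ hmb (key _ _ Nat.prime_three hb3 hb1)
  have h5 := hd _ _ hmc (key _ _ Nat.prime_five hab hab1)
  have h30 : 30 ∣ Nat.card H := by
    have h6 : 2 * 3 ∣ Nat.card H := (by norm_num : Nat.Coprime 2 3).mul_dvd_of_dvd_of_dvd h2 h3
    exact (by norm_num : Nat.Coprime (2 * 3) 5).mul_dvd_of_dvd_of_dvd h6 h5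
  obtain ⟨k, hk⟩ := h30
  have hi := Subgroup.card_mul_index H
  rw [card_A5 e, hk] at hi
  have hk2 : k * H.index = 2 := by
    have : 30 * (k * H.index) = 30 * 2 := by rw [← mul_assoc, hi]
    exact Nat.eq_of_mul_eq_mul_left (by norm_num) this
  have hi2 : H.index ∣ 2 := ⟨k, by rw [← hk2, mul_comm]⟩
  rcases (Nat.dvd_prime Nat.prime_two).1 hi2 with h | h
  · exact Subgroup.index_eq_one.1 h
  · have hn := Subgroup.normal_of_index_eq_two h
    rcases hn.eq_bot_or_eq_top with h6 | h6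
    · exfalso
      rw [h6, Subgroup.index_bot, card_A5 e] at h
      omega
    · exact h6

theorem two_A6 (e : S ≃* alternatingGroup (Fin 6)) :
    ∃ s t : S, s ^ 3 = 1 ∧ t ^ 3 = 1 ∧ s * t = t * s ∧ s ≠ 1 ∧ t ∉ Subgroup.zpowers s := by
  let a₀ : alternatingGroup (Fin 6) := ag c[(0 : Fin 6), 1, 2] (by decide)
  let b₀ : alternatingGroup (Fin 6) := ag c[(3 : Fin 6), 4, 5] (by decide)
  have ha3 : a₀ ^ 3 = 1 := Subtype.ext (show (c[(0 : Fin 6), 1, 2] : Perm (Fin 6)) ^ 3 = 1 by decide)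
  have hb3 : b₀ ^ 3 = 1 := Subtype.ext (show (c[(3 : Fin 6), 4, 5] : Perm (Fin 6)) ^ 3 = 1 by decide)
  have hab : a₀ * b₀ = b₀ * a₀ :=
    Subtype.ext (show (c[(0 : Fin 6), 1, 2] * c[(3 : Fin 6), 4, 5] : Perm (Fin 6)) = c[(3 : Fin 6), 4, 5] * c[(0 : Fin 6), 1, 2] by decide)
  have ha1 : a₀ ≠ 1 := fun h => by
    have h2 : (c[(0 : Fin 6), 1, 2] : Perm (Fin 6)) = 1 := congrArg Subtype.val h
    revert h2; decide
  refine ⟨e.symm a₀, e.symm b₀, by rw [← map_pow, ha3, map_one], by rw [← map_pow, hb3, map_one],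
    by rw [← map_mul, hab, map_mul], fun h => ha1 (by rwa [MulEquiv.symm_apply_eq, map_one] at h), ?_⟩
  intro h
  obtain ⟨k, hk⟩ := Subgroup.mem_zpowers_iff.1 h
  rw [← map_zpow] at hk
  have hk2 : a₀ ^ k = b₀ := e.symm.injective hk
  have h3 : ((c[(0 : Fin 6), 1, 2] : Perm (Fin 6)) ^ k) = c[(3 : Fin 6), 4, 5] := by
    have := congrArg Subtype.val hk2
    exact this
  have h4 := congrArg (fun σ : Perm (Fin 6) => σ 3) h3
  have h5 : ((c[(0 : Fin 6), 1, 2] : Perm (Fin 6)) ^ k) 3 = 3 := by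
    exact Equiv.Perm.zpow_apply_eq_self_of_apply_eq_self (by decide) k
  rw [h5] at h4
  revert h4
  decide

end facts

end Cfsg.Agent.H392.HT
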